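import Cfsg.Agent.Lib.Golay.Chain

/-!
Kernel arithmetic for `112 × 112` matrices over `ZMod 2`, coded as naturals (row `i` at bit `113 * i`).
-/

set_option autoImplicit false
set_option maxRecDepth 100000

namespace CA.BM
open CA.Gol Matrix

abbrev Mx : Type := Matrix (Fin 112) (Fin 112) (ZMod 2)

/-- a bit as an element of `ZMod 2` -/
def bt (x m : ℕ) : ZMod 2 := if x.testBit m then 1 else 0
/-- the coded matrix -/
def mt (A : ℕ) : Mx := fun i j => bt A (113 * i + j)
/-- the coded vector -/
def vt (v : ℕ) : Fin 112 → ZMod 2 := fun j => bt v j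

theorem bt_xor (x y m : ℕ) : bt (x ^^^ y) m = bt x m + bt y m := by
  unfold bt; rw [Nat.testBit_xor]; cases x.testBit m <;> cases y.testBit m <;> decide

theorem bt_of {x m y n z k : ℕ} (h : x.testBit m = (y.testBit n && z.testBit k)) : bt x m = bt y n * bt z k := by
  unfold bt; rw [h]; cases y.testBit n <;> cases z.testBit k <;> decide

theorem bt_congr {x m y n : ℕ} (h : x.testBit m = y.testBit n) : bt x m = bt y n := by unfold bt; rw [h]

theorem vt_inj {v w : ℕ} (hv : v < 2 ^ 112) (hw : w < 2 ^ 112) (h : vt v = vt w) : v = w := by
  refine Nat.eq_of_testBit_eq fun i => ?_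
  by_cases hi : i < 112
  · have := congrFun h ⟨i, hi⟩
    simp only [vt, bt] at this
    revert this
    cases v.testBit i <;> cases w.testBit i <;> decide
  · have : (2 : ℕ) ^ 112 ≤ 2 ^ i := Nat.pow_le_pow_right (by norm_num) (by omega)
    rw [Nat.testBit_lt_two_pow (hv.trans_le this), Nat.testBit_lt_two_pow (hw.trans_le this)]

/-- bits at `0, S, 2 S, …` -/
def msk (S n : ℕ) : ℕ := Nat.rec 0 (fun _ r => 2 ^ S * r + 1) n

theorem msk_succ (S n : ℕ) : msk S (n + 1) = 2 ^ S * msk S n + 1 := rfl

theorem land_msk {S : ℕ} (hS : 0 < S) (x n : ℕ) : x &&& msk S (n + 1) = 2 ^ S * ((x >>> S) &&& msk S n) + x % 2 ^ 1 := by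
  have h1 : 1 < 2 ^ S := Nat.one_lt_two_pow hS.ne'
  have h2 : x % 2 ^ 1 < 2 ^ S := (Nat.mod_lt _ (by norm_num)).trans_le (Nat.pow_le_pow_right (by norm_num) hS)
  refine Nat.eq_of_testBit_eq fun j => ?_
  rw [Nat.testBit_and, msk_succ, Nat.testBit_two_pow_mul_add _ h1, Nat.testBit_two_pow_mul_add _ h2]
  split_ifs with h
  · rw [Nat.testBit_mod_two_pow, Bool.and_comm]
    congr 1
    rcases j with _ | j
    · rfl
    · rw [Nat.testBit_lt_two_pow (Nat.one_lt_two_pow (by omega))]; simp
  · rw [Nat.testBit_and, Nat.testBit_shiftRight, Nat.add_sub_cancel' (not_lt.1 h)]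

theorem spread {S r k : ℕ} (hr : r < 2 ^ S) (hk : k < S) (n : ℕ) : ∀ x i : ℕ,
    ((x &&& msk S n) * r).testBit (S * i + k) = (decide (i < n) && (x.testBit (S * i) && r.testBit k)) := by
  induction n with
  | zero => intro x i; simp [msk]
  | succ n ih =>
    intro x i
    have h2 : x % 2 ^ 1 * r < 2 ^ S := by
      have : x % 2 ^ 1 ≤ 1 := Nat.le_of_lt_succ (Nat.mod_lt _ (by norm_num))
      exact (Nat.mul_le_mul_right r this).trans_lt (by rwa [one_mul])
    rw [land_msk (by omega), add_mul, mul_assoc, Nat.testBit_two_pow_mul_add _ h2]
    rcases i with _ | i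
    · rw [if_pos (by simpa using hk)]
      rcases Nat.mod_two_eq_zero_or_one x with h | h <;> simp [h, Nat.testBit_zero]
    · rw [if_neg (by rw [mul_add]; omega), show S * (i + 1) + k - S = S * i + k by rw [mul_add]; omega, ih,
        Nat.testBit_shiftRight, show S + S * i = S * (i + 1) by ring]
      simp

theorem bit_msk {S k : ℕ} (hk : k < S) (n i : ℕ) : (msk S n).testBit (S * i + k) = (decide (i < n) && decide (k = 0)) := by
  induction n generalizing i with
  | zero => simp [msk]
  | succ n ih =>
    rw [msk_succ, Nat.testBit_two_pow_mul_add _ (Nat.one_lt_two_pow (by omega))]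
    rcases i with _ | i
    · rw [if_pos (by simpa using hk)]
      rcases k with _ | k
      · simp
      · rw [Nat.testBit_lt_two_pow (Nat.one_lt_two_pow (by omega))]; simp
    · rw [if_neg (by rw [mul_add]; omega), show S * (i + 1) + k - S = S * i + k by rw [mul_add]; omega, ih]
      simp

def MK : ℕ := nat_lit 0x80000000000000000000000000004000000000000000000000000000200000000000000000000000000010000000000000000000000000000800000000000000000000000000040000000000000000000000000002000000000000000000000000000100000000000000000000000000008000000000000000000000000000400000000000000000000000000020000000000000000000000000001000000000000000000000000000080000000000000000000000000004000000000000000000000000000200000000000000000000000000010000000000000000000000000000800000000000000000000000000040000000000000000000000000002000000000000000000000000000100000000000000000000000000008000000000000000000000000000400000000000000000000000000020000000000000000000000000001000000000000000000000000000080000000000000000000000000004000000000000000000000000000200000000000000000000000000010000000000000000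0000000000008000000000000000000000000000400000000000000000000000000020000000000000000000000000001000000000000000000000000000080000000000000000000000000004000000000000000000000000000200000000000000000000000000010000000000000000000000000000800000000000000000000000000040000000000000000000000000002000000000000000000000000000100000000000000000000000000008000000000000000000000000000400000000000000000000000000020000000000000000000000000001000000000000000000000000000080000000000000000000000000004000000000000000000000000000200000000000000000000000000010000000000000000000000000000800000000000000000000000000040000000000000000000000000002000000000000000000000000000100000000000000000000000000008000000000000000000000000000400000000000000000000000000020000000000000000000000000001000000000000000000000000000080000000000000000000000000004000000000000000000000000000200000000000000000000000000010000000000000000000000000000800000000000000000000000000040000000000000000000000000002000000000000000000000000000100000000000000000000000000008000000000000000000000000000400000000000000000000000000020000000000000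0000000000000010000000000000000000000000000800000000000000000000000000040000000000000000000000000002000000000000000000000000000100000000000000000000000000008000000000000000000000000000400000000000000000000000000020000000000000000000000000001000000000000000000000000000080000000000000000000000000004000000000000000000000000000200000000000000000000000000010000000000000000000000000000800000000000000000000000000040000000000000000000000000002000000000000000000000000000100000000000000000000000000008000000000000000000000000000400000000000000000000000000020000000000000000000000000001000000000000000000000000000080000000000000000000000000004000000000000000000000000000200000000000000000000000000010000000000000000000000000000800000000000000000000000000040000000000000000000000000002000000000000000000000000000100000000000000000000000000008000000000000000000000000000400000000000000000000000000020000000000000000000000000001000000000000000000000000000080000000000000000000000000004000000000000000000000000000200000000000000000000000000010000000000000000000000000000800000000000000000000000000040000000000000000000000000002000000000000000000000000000100000000000000000000000000008000000000000000000000000000400000000000000000000000000020000000000000000000000000001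
def RP : ℕ := nat_lit 0x100000000000000000000000000010000000000000000000000000001000000000000000000000000000100000000000000000000000000010000000000000000000000000001000000000000000000000000000100000000000000000000000000010000000000000000000000000001000000000000000000000000000100000000000000000000000000010000000000000000000000000001000000000000000000000000000100000000000000000000000000010000000000000000000000000001000000000000000000000000000100000000000000000000000000010000000000000000000000000001000000000000000000000000000100000000000000000000000000010000000000000000000000000001000000000000000000000000000100000000000000000000000000010000000000000000000000000001000000000000000000000000000100000000000000000000000000010000000000000000000000000001000000000000000000000000000100000000000000000000000000010000000000000000000000000001000000000000000000000000000100000000000000000000000000010000000000000000000000000001000000000000000000000000000100000000000000000000000000010000000000000000000000000001000000000000000000000000000100000000000000000000000000010000000000000000000000000001000000000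0000000000000000001000000000000000000000000000100000000000000000000000000010000000000000000000000000001000000000000000000000000000100000000000000000000000000010000000000000000000000000001000000000000000000000000000100000000000000000000000000010000000000000000000000000001000000000000000000000000000100000000000000000000000000010000000000000000000000000001000000000000000000000000000100000000000000000000000000010000000000000000000000000001000000000000000000000000000100000000000000000000000000010000000000000000000000000001000000000000000000000000000100000000000000000000000000010000000000000000000000000001000000000000000000000000000100000000000000000000000000010000000000000000000000000001000000000000000000000000000100000000000000000000000000010000000000000000000000000001000000000000000000000000000100000000000000000000000000010000000000000000000000000001000000000000000000000000000100000000000000000000000000010000000000000000000000000001000000000000000000000000000100000000000000000000000000010000000000000000000000000001000000000000000000000000000100000000000000000000000000010000000000000000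000000000001000000000000000000000000000100000000000000000000000000010000000000000000000000000001000000000000000000000000000100000000000000000000000000010000000000000000000000000001000000000000000000000000000100000000000000000000000000010000000000000000000000000001000000000000000000000000000100000000000000000000000000010000000000000000000000000001000000000000000000000000000100000000000000000000000000010000000000000000000000000001000000000000000000000000000100000000000000000000000000010000000000000000000000000001000000000000000000000000000100000000000000000000000000010000000000000000000000000001000000000000000000000000000100000000000000000000000000010000000000000000000000000001000000000000000000000000000100000000000000000000000000010000000000000000000000000001000000000000000000000000000100000000000000000000000000010000000000000000000000000001000000000000000000000000000100000000000000000000000000010000000000000000000000000001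
def RW : ℕ := nat_lit 0xffffffffffffffffffffffffffff
/-- the identity matrix -/
def I1 : ℕ := nat_lit 0x4000000000000000000000000000100000000000000000000000000004000000000000000000000000000100000000000000000000000000004000000000000000000000000000100000000000000000000000000004000000000000000000000000000100000000000000000000000000004000000000000000000000000000100000000000000000000000000004000000000000000000000000000100000000000000000000000000004000000000000000000000000000100000000000000000000000000004000000000000000000000000000100000000000000000000000000004000000000000000000000000000100000000000000000000000000004000000000000000000000000000100000000000000000000000000004000000000000000000000000000100000000000000000000000000004000000000000000000000000000100000000000000000000000000004000000000000000000000000000100000000000000000000000000004000000000000000000000000000100000000000000000000000000004000000000000000000000000000100000000000000000000000000004000000000000000000000000000100000000000000000000000000004000000000000000000000000000100000000000000000000000000004000000000000000000000000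0001000000000000000000000000000040000000000000000000000000001000000000000000000000000000040000000000000000000000000001000000000000000000000000000040000000000000000000000000001000000000000000000000000000040000000000000000000000000001000000000000000000000000000040000000000000000000000000001000000000000000000000000000040000000000000000000000000001000000000000000000000000000040000000000000000000000000001000000000000000000000000000040000000000000000000000000001000000000000000000000000000040000000000000000000000000001000000000000000000000000000040000000000000000000000000001000000000000000000000000000040000000000000000000000000001000000000000000000000000000040000000000000000000000000001000000000000000000000000000040000000000000000000000000001000000000000000000000000000040000000000000000000000000001000000000000000000000000000040000000000000000000000000001000000000000000000000000000040000000000000000000000000001000000000000000000000000000040000000000000000000000000001000000000000000000000000000040000000000000000000000000001000000000000000000000000000040000000000000000000000000001000000000000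000000000000000040000000000000000000000000001000000000000000000000000000040000000000000000000000000001000000000000000000000000000040000000000000000000000000001000000000000000000000000000040000000000000000000000000001000000000000000000000000000040000000000000000000000000001000000000000000000000000000040000000000000000000000000001000000000000000000000000000040000000000000000000000000001000000000000000000000000000040000000000000000000000000001000000000000000000000000000040000000000000000000000000001000000000000000000000000000040000000000000000000000000001000000000000000000000000000040000000000000000000000000001000000000000000000000000000040000000000000000000000000001000000000000000000000000000040000000000000000000000000001000000000000000000000000000040000000000000000000000000001000000000000000000000000000040000000000000000000000000001000000000000000000000000000040000000000000000000000000001000000000000000000000000000040000000000000000000000000001000000000000000000000000000040000000000000000000000000001000000000000000000000000000040000000000000000000000000001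

theorem MK_eq : MK = msk 113 112 := by decide +kernel
theorem RP_eq : RP = msk 112 112 := by decide +kernel
theorem RW_eq : RW = 2 ^ 112 - 1 := by decide +kernel
theorem I1_eq : I1 = msk 114 112 := by decide +kernel

theorem bit_RW (k : ℕ) : RW.testBit k = decide (k < 112) := by rw [RW_eq, Nat.testBit_two_pow_sub_one]
theorem land_RW_lt (x : ℕ) : x &&& RW < 2 ^ 112 := Nat.and_lt_two_pow _ (by rw [RW_eq]; norm_num)

theorem mt_I1 : mt I1 = 1 := by
  ext i j
  have hi := i.2
  have hj := j.2
  rw [mt, bt, I1_eq, Matrix.one_apply]
  by_cases h : (i : ℕ) ≤ j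
  · rw [show 113 * (i : ℕ) + j = 114 * i + (j - i) by omega, bit_msk (by omega)]
    by_cases e : i = j
    · subst e; simp
    · have : (j : ℕ) - i ≠ 0 := fun c => e (Fin.ext (by omega))
      simp [e, this]
  · obtain ⟨i', e⟩ : ∃ i', (i : ℕ) = i' + 1 := ⟨i - 1, by omega⟩
    rw [show 113 * (i : ℕ) + j = 114 * i' + (113 + j - i') by omega]
    have e2 : i ≠ j := fun c => h (by rw [c])
    by_cases c : 113 + (j : ℕ) - i' < 114
    · rw [bit_msk c]
      have : 113 + (j : ℕ) - i' ≠ 0 := by omega
      simp [e2, this]
    · omega

def tm (A B j : ℕ) : ℕ := Nat.mul (Nat.land A (Nat.shiftLeft MK j))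
  (Nat.land (Nat.shiftRight B (Nat.mul 114 j)) (Nat.shiftLeft RW (Nat.sub 111 j)))
def mR (A B n : ℕ) : ℕ := Nat.rec (nat_lit 0) (fun j acc => Nat.xor acc (tm A B j)) n
def mU (A B : ℕ) : ℕ :=
  (Nat.xor (Nat.xor (Nat.xor (Nat.xor (Nat.xor (Nat.xor (Nat.xor (Nat.xor (Nat.xor (Nat.xor (Nat.xor (Nat.xor (Nat.xor (Nat.xor (Nat.xor (Nat.xor (Nat.xor (Nat.xor (Nat.xor (Nat.xor (Nat.xor (Nat.xor (Nat.xor (Nat.xor (Nat.xor (Nat.xor (Nat.xor (Nat.xor (Nat.xor (Nat.xor (Nat.xor (Nat.xor (Nat.xor (Nat.xor (Nat.xor (Nat.xor (Nat.xor (Nat.xor (Nat.xor (Nat.xor (Nat.xor (Nat.xor (Nat.xor (Nat.xor (Nat.xor (Nat.xor (Nat.xor (Nat.xor (Nat.xor (Nat.xor (Nat.xor (Nat.xor (Nat.xor (Nat.xor (Nat.xor (Nat.xor (Nat.xor (Nat.xor (Nat.xor (Nat.xor (Nat.xor (Nat.xor (Nat.xor (Nat.xor (Nat.xor (Nat.xor (Nat.xor (Nat.xor (Nat.xor (Nat.xor (Nat.xor (Nat.xor (Nat.xor (Nat.xor (Nat.xor (Nat.xor (Nat.xor (Nat.xor (Nat.xor (Nat.xor (Nat.xor (Nat.xor (Nat.xor (Nat.xor (Nat.xor (Nat.xor (Nat.xor (Nat.xor (Nat.xor (Nat.xor (Nat.xor (Nat.xor (Nat.xor (Nat.xor (Nat.xor (Nat.xor (Nat.xor (Nat.xor (Nat.xor (Nat.xor (Nat.xor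 (Nat.xor (Nat.xor (Nat.xor (Nat.xor (Nat.xor (Nat.xor (Nat.xor (Nat.xor (Nat.xor (Nat.xor (Nat.xor (nat_lit 0)
    (Nat.mul (Nat.land A (Nat.shiftLeft MK (nat_lit 0))) (Nat.land (Nat.shiftRight B (nat_lit 0)) (nat_lit 0x7fffffffffffffffffffffffffff8000000000000000000000000000))))
    (Nat.mul (Nat.land A (Nat.shiftLeft MK (nat_lit 1))) (Nat.land (Nat.shiftRight B (nat_lit 114)) (nat_lit 0x3fffffffffffffffffffffffffffc000000000000000000000000000))))
    (Nat.mul (Nat.land A (Nat.shiftLeft MK (nat_lit 2))) (Nat.land (Nat.shiftRight B (nat_lit 228)) (nat_lit 0x1fffffffffffffffffffffffffffe000000000000000000000000000))))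
    (Nat.mul (Nat.land A (Nat.shiftLeft MK (nat_lit 3))) (Nat.land (Nat.shiftRight B (nat_lit 342)) (nat_lit 0xffffffffffffffffffffffffffff000000000000000000000000000))))
    (Nat.mul (Nat.land A (Nat.shiftLeft MK (nat_lit 4))) (Nat.land (Nat.shiftRight B (nat_lit 456)) (nat_lit 0x7fffffffffffffffffffffffffff800000000000000000000000000))))
    (Nat.mul (Nat.land A (Nat.shiftLeft MK (nat_lit 5))) (Nat.land (Nat.shiftRight B (nat_lit 570)) (nat_lit 0x3fffffffffffffffffffffffffffc00000000000000000000000000))))
    (Nat.mul (Nat.land A (Nat.shiftLeft MK (nat_lit 6))) (Nat.land (Nat.shiftRight B (nat_lit 684)) (nat_lit 0x1fffffffffffffffffffffffffffe00000000000000000000000000))))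
    (Nat.mul (Nat.land A (Nat.shiftLeft MK (nat_lit 7))) (Nat.land (Nat.shiftRight B (nat_lit 798)) (nat_lit 0xffffffffffffffffffffffffffff00000000000000000000000000))))
    (Nat.mul (Nat.land A (Nat.shiftLeft MK (nat_lit 8))) (Nat.land (Nat.shiftRight B (nat_lit 912)) (nat_lit 0x7fffffffffffffffffffffffffff80000000000000000000000000))))
    (Nat.mul (Nat.land A (Nat.shiftLeft MK (nat_lit 9))) (Nat.land (Nat.shiftRight B (nat_lit 1026)) (nat_lit 0x3fffffffffffffffffffffffffffc0000000000000000000000000))))
    (Nat.mul (Nat.land A (Nat.shiftLeft MK (nat_lit 10))) (Nat.land (Nat.shiftRight B (nat_lit 1140)) (nat_lit 0x1fffffffffffffffffffffffffffe0000000000000000000000000))))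
    (Nat.mul (Nat.land A (Nat.shiftLeft MK (nat_lit 11))) (Nat.land (Nat.shiftRight B (nat_lit 1254)) (nat_lit 0xffffffffffffffffffffffffffff0000000000000000000000000))))
    (Nat.mul (Nat.land A (Nat.shiftLeft MK (nat_lit 12))) (Nat.land (Nat.shiftRight B (nat_lit 1368)) (nat_lit 0x7fffffffffffffffffffffffffff8000000000000000000000000))))
    (Nat.mul (Nat.land A (Nat.shiftLeft MK (nat_lit 13))) (Nat.land (Nat.shiftRight B (nat_lit 1482)) (nat_lit 0x3fffffffffffffffffffffffffffc000000000000000000000000))))
    (Nat.mul (Nat.land A (Nat.shiftLeft MK (nat_lit 14))) (Nat.land (Nat.shiftRight B (nat_lit 1596)) (nat_lit 0x1fffffffffffffffffffffffffffe000000000000000000000000))))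
    (Nat.mul (Nat.land A (Nat.shiftLeft MK (nat_lit 15))) (Nat.land (Nat.shiftRight B (nat_lit 1710)) (nat_lit 0xffffffffffffffffffffffffffff000000000000000000000000))))
    (Nat.mul (Nat.land A (Nat.shiftLeft MK (nat_lit 16))) (Nat.land (Nat.shiftRight B (nat_lit 1824)) (nat_lit 0x7fffffffffffffffffffffffffff800000000000000000000000))))
    (Nat.mul (Nat.land A (Nat.shiftLeft MK (nat_lit 17))) (Nat.land (Nat.shiftRight B (nat_lit 1938)) (nat_lit 0x3fffffffffffffffffffffffffffc00000000000000000000000))))
    (Nat.mul (Nat.land A (Nat.shiftLeft MK (nat_lit 18))) (Nat.land (Nat.shiftRight B (nat_lit 2052)) (nat_lit 0x1fffffffffffffffffffffffffffe00000000000000000000000))))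
    (Nat.mul (Nat.land A (Nat.shiftLeft MK (nat_lit 19))) (Nat.land (Nat.shiftRight B (nat_lit 2166)) (nat_lit 0xffffffffffffffffffffffffffff00000000000000000000000))))
    (Nat.mul (Nat.land A (Nat.shiftLeft MK (nat_lit 20))) (Nat.land (Nat.shiftRight B (nat_lit 2280)) (nat_lit 0x7fffffffffffffffffffffffffff80000000000000000000000))))
    (Nat.mul (Nat.land A (Nat.shiftLeft MK (nat_lit 21))) (Nat.land (Nat.shiftRight B (nat_lit 2394)) (nat_lit 0x3fffffffffffffffffffffffffffc0000000000000000000000))))
    (Nat.mul (Nat.land A (Nat.shiftLeft MK (nat_lit 22))) (Nat.land (Nat.shiftRight B (nat_lit 2508)) (nat_lit 0x1fffffffffffffffffffffffffffe0000000000000000000000))))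
    (Nat.mul (Nat.land A (Nat.shiftLeft MK (nat_lit 23))) (Nat.land (Nat.shiftRight B (nat_lit 2622)) (nat_lit 0xffffffffffffffffffffffffffff0000000000000000000000))))
    (Nat.mul (Nat.land A (Nat.shiftLeft MK (nat_lit 24))) (Nat.land (Nat.shiftRight B (nat_lit 2736)) (nat_lit 0x7fffffffffffffffffffffffffff8000000000000000000000))))
    (Nat.mul (Nat.land A (Nat.shiftLeft MK (nat_lit 25))) (Nat.land (Nat.shiftRight B (nat_lit 2850)) (nat_lit 0x3fffffffffffffffffffffffffffc000000000000000000000))))
    (Nat.mul (Nat.land A (Nat.shiftLeft MK (nat_lit 26))) (Nat.land (Nat.shiftRight B (nat_lit 2964)) (nat_lit 0x1fffffffffffffffffffffffffffe000000000000000000000))))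
    (Nat.mul (Nat.land A (Nat.shiftLeft MK (nat_lit 27))) (Nat.land (Nat.shiftRight B (nat_lit 3078)) (nat_lit 0xffffffffffffffffffffffffffff000000000000000000000))))
    (Nat.mul (Nat.land A (Nat.shiftLeft MK (nat_lit 28))) (Nat.land (Nat.shiftRight B (nat_lit 3192)) (nat_lit 0x7fffffffffffffffffffffffffff800000000000000000000))))
    (Nat.mul (Nat.land A (Nat.shiftLeft MK (nat_lit 29))) (Nat.land (Nat.shiftRight B (nat_lit 3306)) (nat_lit 0x3fffffffffffffffffffffffffffc00000000000000000000))))
    (Nat.mul (Nat.land A (Nat.shiftLeft MK (nat_lit 30))) (Nat.land (Nat.shiftRight B (nat_lit 3420)) (nat_lit 0x1fffffffffffffffffffffffffffe00000000000000000000))))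
    (Nat.mul (Nat.land A (Nat.shiftLeft MK (nat_lit 31))) (Nat.land (Nat.shiftRight B (nat_lit 3534)) (nat_lit 0xffffffffffffffffffffffffffff00000000000000000000))))
    (Nat.mul (Nat.land A (Nat.shiftLeft MK (nat_lit 32))) (Nat.land (Nat.shiftRight B (nat_lit 3648)) (nat_lit 0x7fffffffffffffffffffffffffff80000000000000000000))))
    (Nat.mul (Nat.land A (Nat.shiftLeft MK (nat_lit 33))) (Nat.land (Nat.shiftRight B (nat_lit 3762)) (nat_lit 0x3fffffffffffffffffffffffffffc0000000000000000000))))
    (Nat.mul (Nat.land A (Nat.shiftLeft MK (nat_lit 34))) (Nat.land (Nat.shiftRight B (nat_lit 3876)) (nat_lit 0x1fffffffffffffffffffffffffffe0000000000000000000))))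
    (Nat.mul (Nat.land A (Nat.shiftLeft MK (nat_lit 35))) (Nat.land (Nat.shiftRight B (nat_lit 3990)) (nat_lit 0xffffffffffffffffffffffffffff0000000000000000000))))
    (Nat.mul (Nat.land A (Nat.shiftLeft MK (nat_lit 36))) (Nat.land (Nat.shiftRight B (nat_lit 4104)) (nat_lit 0x7fffffffffffffffffffffffffff8000000000000000000))))
    (Nat.mul (Nat.land A (Nat.shiftLeft MK (nat_lit 37))) (Nat.land (Nat.shiftRight B (nat_lit 4218)) (nat_lit 0x3fffffffffffffffffffffffffffc000000000000000000))))
    (Nat.mul (Nat.land A (Nat.shiftLeft MK (nat_lit 38))) (Nat.land (Nat.shiftRight B (nat_lit 4332)) (nat_lit 0x1fffffffffffffffffffffffffffe000000000000000000))))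
    (Nat.mul (Nat.land A (Nat.shiftLeft MK (nat_lit 39))) (Nat.land (Nat.shiftRight B (nat_lit 4446)) (nat_lit 0xffffffffffffffffffffffffffff000000000000000000))))
    (Nat.mul (Nat.land A (Nat.shiftLeft MK (nat_lit 40))) (Nat.land (Nat.shiftRight B (nat_lit 4560)) (nat_lit 0x7fffffffffffffffffffffffffff800000000000000000))))
    (Nat.mul (Nat.land A (Nat.shiftLeft MK (nat_lit 41))) (Nat.land (Nat.shiftRight B (nat_lit 4674)) (nat_lit 0x3fffffffffffffffffffffffffffc00000000000000000))))
    (Nat.mul (Nat.land A (Nat.shiftLeft MK (nat_lit 42))) (Nat.land (Nat.shiftRight B (nat_lit 4788)) (nat_lit 0x1fffffffffffffffffffffffffffe00000000000000000))))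
    (Nat.mul (Nat.land A (Nat.shiftLeft MK (nat_lit 43))) (Nat.land (Nat.shiftRight B (nat_lit 4902)) (nat_lit 0xffffffffffffffffffffffffffff00000000000000000))))
    (Nat.mul (Nat.land A (Nat.shiftLeft MK (nat_lit 44))) (Nat.land (Nat.shiftRight B (nat_lit 5016)) (nat_lit 0x7fffffffffffffffffffffffffff80000000000000000))))
    (Nat.mul (Nat.land A (Nat.shiftLeft MK (nat_lit 45))) (Nat.land (Nat.shiftRight B (nat_lit 5130)) (nat_lit 0x3fffffffffffffffffffffffffffc0000000000000000))))
    (Nat.mul (Nat.land A (Nat.shiftLeft MK (nat_lit 46))) (Nat.land (Nat.shiftRight B (nat_lit 5244)) (nat_lit 0x1fffffffffffffffffffffffffffe0000000000000000))))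
    (Nat.mul (Nat.land A (Nat.shiftLeft MK (nat_lit 47))) (Nat.land (Nat.shiftRight B (nat_lit 5358)) (nat_lit 0xffffffffffffffffffffffffffff0000000000000000))))
    (Nat.mul (Nat.land A (Nat.shiftLeft MK (nat_lit 48))) (Nat.land (Nat.shiftRight B (nat_lit 5472)) (nat_lit 0x7fffffffffffffffffffffffffff8000000000000000))))
    (Nat.mul (Nat.land A (Nat.shiftLeft MK (nat_lit 49))) (Nat.land (Nat.shiftRight B (nat_lit 5586)) (nat_lit 0x3fffffffffffffffffffffffffffc000000000000000))))
    (Nat.mul (Nat.land A (Nat.shiftLeft MK (nat_lit 50))) (Nat.land (Nat.shiftRight B (nat_lit 5700)) (nat_lit 0x1fffffffffffffffffffffffffffe000000000000000))))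
    (Nat.mul (Nat.land A (Nat.shiftLeft MK (nat_lit 51))) (Nat.land (Nat.shiftRight B (nat_lit 5814)) (nat_lit 0xffffffffffffffffffffffffffff000000000000000))))
    (Nat.mul (Nat.land A (Nat.shiftLeft MK (nat_lit 52))) (Nat.land (Nat.shiftRight B (nat_lit 5928)) (nat_lit 0x7fffffffffffffffffffffffffff800000000000000))))
    (Nat.mul (Nat.land A (Nat.shiftLeft MK (nat_lit 53))) (Nat.land (Nat.shiftRight B (nat_lit 6042)) (nat_lit 0x3fffffffffffffffffffffffffffc00000000000000))))
    (Nat.mul (Nat.land A (Nat.shiftLeft MK (nat_lit 54))) (Nat.land (Nat.shiftRight B (nat_lit 6156)) (nat_lit 0x1fffffffffffffffffffffffffffe00000000000000))))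
    (Nat.mul (Nat.land A (Nat.shiftLeft MK (nat_lit 55))) (Nat.land (Nat.shiftRight B (nat_lit 6270)) (nat_lit 0xffffffffffffffffffffffffffff00000000000000))))
    (Nat.mul (Nat.land A (Nat.shiftLeft MK (nat_lit 56))) (Nat.land (Nat.shiftRight B (nat_lit 6384)) (nat_lit 0x7fffffffffffffffffffffffffff80000000000000))))
    (Nat.mul (Nat.land A (Nat.shiftLeft MK (nat_lit 57))) (Nat.land (Nat.shiftRight B (nat_lit 6498)) (nat_lit 0x3fffffffffffffffffffffffffffc0000000000000))))
    (Nat.mul (Nat.land A (Nat.shiftLeft MK (nat_lit 58))) (Nat.land (Nat.shiftRight B (nat_lit 6612)) (nat_lit 0x1fffffffffffffffffffffffffffe0000000000000))))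
    (Nat.mul (Nat.land A (Nat.shiftLeft MK (nat_lit 59))) (Nat.land (Nat.shiftRight B (nat_lit 6726)) (nat_lit 0xffffffffffffffffffffffffffff0000000000000))))
    (Nat.mul (Nat.land A (Nat.shiftLeft MK (nat_lit 60))) (Nat.land (Nat.shiftRight B (nat_lit 6840)) (nat_lit 0x7fffffffffffffffffffffffffff8000000000000))))
    (Nat.mul (Nat.land A (Nat.shiftLeft MK (nat_lit 61))) (Nat.land (Nat.shiftRight B (nat_lit 6954)) (nat_lit 0x3fffffffffffffffffffffffffffc000000000000))))
    (Nat.mul (Nat.land A (Nat.shiftLeft MK (nat_lit 62))) (Nat.land (Nat.shiftRight B (nat_lit 7068)) (nat_lit 0x1fffffffffffffffffffffffffffe000000000000))))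
    (Nat.mul (Nat.land A (Nat.shiftLeft MK (nat_lit 63))) (Nat.land (Nat.shiftRight B (nat_lit 7182)) (nat_lit 0xffffffffffffffffffffffffffff000000000000))))
    (Nat.mul (Nat.land A (Nat.shiftLeft MK (nat_lit 64))) (Nat.land (Nat.shiftRight B (nat_lit 7296)) (nat_lit 0x7fffffffffffffffffffffffffff800000000000))))
    (Nat.mul (Nat.land A (Nat.shiftLeft MK (nat_lit 65))) (Nat.land (Nat.shiftRight B (nat_lit 7410)) (nat_lit 0x3fffffffffffffffffffffffffffc00000000000))))
    (Nat.mul (Nat.land A (Nat.shiftLeft MK (nat_lit 66))) (Nat.land (Nat.shiftRight B (nat_lit 7524)) (nat_lit 0x1fffffffffffffffffffffffffffe00000000000))))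
    (Nat.mul (Nat.land A (Nat.shiftLeft MK (nat_lit 67))) (Nat.land (Nat.shiftRight B (nat_lit 7638)) (nat_lit 0xffffffffffffffffffffffffffff00000000000))))
    (Nat.mul (Nat.land A (Nat.shiftLeft MK (nat_lit 68))) (Nat.land (Nat.shiftRight B (nat_lit 7752)) (nat_lit 0x7fffffffffffffffffffffffffff80000000000))))
    (Nat.mul (Nat.land A (Nat.shiftLeft MK (nat_lit 69))) (Nat.land (Nat.shiftRight B (nat_lit 7866)) (nat_lit 0x3fffffffffffffffffffffffffffc0000000000))))
    (Nat.mul (Nat.land A (Nat.shiftLeft MK (nat_lit 70))) (Nat.land (Nat.shiftRight B (nat_lit 7980)) (nat_lit 0x1fffffffffffffffffffffffffffe0000000000))))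
    (Nat.mul (Nat.land A (Nat.shiftLeft MK (nat_lit 71))) (Nat.land (Nat.shiftRight B (nat_lit 8094)) (nat_lit 0xffffffffffffffffffffffffffff0000000000))))
    (Nat.mul (Nat.land A (Nat.shiftLeft MK (nat_lit 72))) (Nat.land (Nat.shiftRight B (nat_lit 8208)) (nat_lit 0x7fffffffffffffffffffffffffff8000000000))))
    (Nat.mul (Nat.land A (Nat.shiftLeft MK (nat_lit 73))) (Nat.land (Nat.shiftRight B (nat_lit 8322)) (nat_lit 0x3fffffffffffffffffffffffffffc000000000))))
    (Nat.mul (Nat.land A (Nat.shiftLeft MK (nat_lit 74))) (Nat.land (Nat.shiftRight B (nat_lit 8436)) (nat_lit 0x1fffffffffffffffffffffffffffe000000000))))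
    (Nat.mul (Nat.land A (Nat.shiftLeft MK (nat_lit 75))) (Nat.land (Nat.shiftRight B (nat_lit 8550)) (nat_lit 0xffffffffffffffffffffffffffff000000000))))
    (Nat.mul (Nat.land A (Nat.shiftLeft MK (nat_lit 76))) (Nat.land (Nat.shiftRight B (nat_lit 8664)) (nat_lit 0x7fffffffffffffffffffffffffff800000000))))
    (Nat.mul (Nat.land A (Nat.shiftLeft MK (nat_lit 77))) (Nat.land (Nat.shiftRight B (nat_lit 8778)) (nat_lit 0x3fffffffffffffffffffffffffffc00000000))))
    (Nat.mul (Nat.land A (Nat.shiftLeft MK (nat_lit 78))) (Nat.land (Nat.shiftRight B (nat_lit 8892)) (nat_lit 0x1fffffffffffffffffffffffffffe00000000))))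
    (Nat.mul (Nat.land A (Nat.shiftLeft MK (nat_lit 79))) (Nat.land (Nat.shiftRight B (nat_lit 9006)) (nat_lit 0xffffffffffffffffffffffffffff00000000))))
    (Nat.mul (Nat.land A (Nat.shiftLeft MK (nat_lit 80))) (Nat.land (Nat.shiftRight B (nat_lit 9120)) (nat_lit 0x7fffffffffffffffffffffffffff80000000))))
    (Nat.mul (Nat.land A (Nat.shiftLeft MK (nat_lit 81))) (Nat.land (Nat.shiftRight B (nat_lit 9234)) (nat_lit 0x3fffffffffffffffffffffffffffc0000000))))
    (Nat.mul (Nat.land A (Nat.shiftLeft MK (nat_lit 82))) (Nat.land (Nat.shiftRight B (nat_lit 9348)) (nat_lit 0x1fffffffffffffffffffffffffffe0000000))))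
    (Nat.mul (Nat.land A (Nat.shiftLeft MK (nat_lit 83))) (Nat.land (Nat.shiftRight B (nat_lit 9462)) (nat_lit 0xffffffffffffffffffffffffffff0000000))))
    (Nat.mul (Nat.land A (Nat.shiftLeft MK (nat_lit 84))) (Nat.land (Nat.shiftRight B (nat_lit 9576)) (nat_lit 0x7fffffffffffffffffffffffffff8000000))))
    (Nat.mul (Nat.land A (Nat.shiftLeft MK (nat_lit 85))) (Nat.land (Nat.shiftRight B (nat_lit 9690)) (nat_lit 0x3fffffffffffffffffffffffffffc000000))))
    (Nat.mul (Nat.land A (Nat.shiftLeft MK (nat_lit 86))) (Nat.land (Nat.shiftRight B (nat_lit 9804)) (nat_lit 0x1fffffffffffffffffffffffffffe000000))))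
    (Nat.mul (Nat.land A (Nat.shiftLeft MK (nat_lit 87))) (Nat.land (Nat.shiftRight B (nat_lit 9918)) (nat_lit 0xffffffffffffffffffffffffffff000000))))
    (Nat.mul (Nat.land A (Nat.shiftLeft MK (nat_lit 88))) (Nat.land (Nat.shiftRight B (nat_lit 10032)) (nat_lit 0x7fffffffffffffffffffffffffff800000))))
    (Nat.mul (Nat.land A (Nat.shiftLeft MK (nat_lit 89))) (Nat.land (Nat.shiftRight B (nat_lit 10146)) (nat_lit 0x3fffffffffffffffffffffffffffc00000))))
    (Nat.mul (Nat.land A (Nat.shiftLeft MK (nat_lit 90))) (Nat.land (Nat.shiftRight B (nat_lit 10260)) (nat_lit 0x1fffffffffffffffffffffffffffe00000))))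
    (Nat.mul (Nat.land A (Nat.shiftLeft MK (nat_lit 91))) (Nat.land (Nat.shiftRight B (nat_lit 10374)) (nat_lit 0xffffffffffffffffffffffffffff00000))))
    (Nat.mul (Nat.land A (Nat.shiftLeft MK (nat_lit 92))) (Nat.land (Nat.shiftRight B (nat_lit 10488)) (nat_lit 0x7fffffffffffffffffffffffffff80000))))
    (Nat.mul (Nat.land A (Nat.shiftLeft MK (nat_lit 93))) (Nat.land (Nat.shiftRight B (nat_lit 10602)) (nat_lit 0x3fffffffffffffffffffffffffffc0000))))
    (Nat.mul (Nat.land A (Nat.shiftLeft MK (nat_lit 94))) (Nat.land (Nat.shiftRight B (nat_lit 10716)) (nat_lit 0x1fffffffffffffffffffffffffffe0000))))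
    (Nat.mul (Nat.land A (Nat.shiftLeft MK (nat_lit 95))) (Nat.land (Nat.shiftRight B (nat_lit 10830)) (nat_lit 0xffffffffffffffffffffffffffff0000))))
    (Nat.mul (Nat.land A (Nat.shiftLeft MK (nat_lit 96))) (Nat.land (Nat.shiftRight B (nat_lit 10944)) (nat_lit 0x7fffffffffffffffffffffffffff8000))))
    (Nat.mul (Nat.land A (Nat.shiftLeft MK (nat_lit 97))) (Nat.land (Nat.shiftRight B (nat_lit 11058)) (nat_lit 0x3fffffffffffffffffffffffffffc000))))
    (Nat.mul (Nat.land A (Nat.shiftLeft MK (nat_lit 98))) (Nat.land (Nat.shiftRight B (nat_lit 11172)) (nat_lit 0x1fffffffffffffffffffffffffffe000))))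
    (Nat.mul (Nat.land A (Nat.shiftLeft MK (nat_lit 99))) (Nat.land (Nat.shiftRight B (nat_lit 11286)) (nat_lit 0xffffffffffffffffffffffffffff000))))
    (Nat.mul (Nat.land A (Nat.shiftLeft MK (nat_lit 100))) (Nat.land (Nat.shiftRight B (nat_lit 11400)) (nat_lit 0x7fffffffffffffffffffffffffff800))))
    (Nat.mul (Nat.land A (Nat.shiftLeft MK (nat_lit 101))) (Nat.land (Nat.shiftRight B (nat_lit 11514)) (nat_lit 0x3fffffffffffffffffffffffffffc00))))
    (Nat.mul (Nat.land A (Nat.shiftLeft MK (nat_lit 102))) (Nat.land (Nat.shiftRight B (nat_lit 11628)) (nat_lit 0x1fffffffffffffffffffffffffffe00))))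
    (Nat.mul (Nat.land A (Nat.shiftLeft MK (nat_lit 103))) (Nat.land (Nat.shiftRight B (nat_lit 11742)) (nat_lit 0xffffffffffffffffffffffffffff00))))
    (Nat.mul (Nat.land A (Nat.shiftLeft MK (nat_lit 104))) (Nat.land (Nat.shiftRight B (nat_lit 11856)) (nat_lit 0x7fffffffffffffffffffffffffff80))))
    (Nat.mul (Nat.land A (Nat.shiftLeft MK (nat_lit 105))) (Nat.land (Nat.shiftRight B (nat_lit 11970)) (nat_lit 0x3fffffffffffffffffffffffffffc0))))
    (Nat.mul (Nat.land A (Nat.shiftLeft MK (nat_lit 106))) (Nat.land (Nat.shiftRight B (nat_lit 12084)) (nat_lit 0x1fffffffffffffffffffffffffffe0))))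
    (Nat.mul (Nat.land A (Nat.shiftLeft MK (nat_lit 107))) (Nat.land (Nat.shiftRight B (nat_lit 12198)) (nat_lit 0xffffffffffffffffffffffffffff0))))
    (Nat.mul (Nat.land A (Nat.shiftLeft MK (nat_lit 108))) (Nat.land (Nat.shiftRight B (nat_lit 12312)) (nat_lit 0x7fffffffffffffffffffffffffff8))))
    (Nat.mul (Nat.land A (Nat.shiftLeft MK (nat_lit 109))) (Nat.land (Nat.shiftRight B (nat_lit 12426)) (nat_lit 0x3fffffffffffffffffffffffffffc))))
    (Nat.mul (Nat.land A (Nat.shiftLeft MK (nat_lit 110))) (Nat.land (Nat.shiftRight B (nat_lit 12540)) (nat_lit 0x1fffffffffffffffffffffffffffe))))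
    (Nat.mul (Nat.land A (Nat.shiftLeft MK (nat_lit 111))) (Nat.land (Nat.shiftRight B (nat_lit 12654)) (nat_lit 0xffffffffffffffffffffffffffff))))

theorem mU_eq (A B : ℕ) : mU A B = mR A B 112 := by
  with_unfolding_all rfl

/-- the matrix product -/
def mm (A B : ℕ) : ℕ := force A fun A => force (Nat.shiftLeft B 111) fun B' => Nat.shiftRight (mU A B') 111

theorem tm_eq (A B : ℕ) {j : ℕ} (hj : j < 112) :
    tm A (B <<< 111) j = (((A >>> j) &&& MK) * ((B >>> (113 * j)) &&& RW)) <<< 111 := by
  have e1 : A &&& (MK <<< j) = ((A >>> j) &&& MK) <<< j := Nat.eq_of_testBit_eq fun m => by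
    rw [Nat.testBit_and, Nat.testBit_shiftLeft, Nat.testBit_shiftLeft, Nat.testBit_and, Nat.testBit_shiftRight]
    by_cases h : m ≥ j
    · rw [Nat.add_sub_cancel' h]; simp [h]
    · simp [h]
  have e2 : ((B <<< 111) >>> (114 * j)) &&& (RW <<< (111 - j)) = ((B >>> (113 * j)) &&& RW) <<< (111 - j) :=
    Nat.eq_of_testBit_eq fun m => by
      rw [Nat.testBit_and, Nat.testBit_shiftLeft, Nat.testBit_shiftLeft, Nat.testBit_and, Nat.testBit_shiftRight,
        Nat.testBit_shiftRight, Nat.testBit_shiftLeft]
      by_cases h : m ≥ 111 - j
      · rw [show 114 * j + m - 111 = 113 * j + (m - (111 - j)) by omega]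
        have : 114 * j + m ≥ 111 := by omega
        simp [h, this]
      · simp [h]
  show (A &&& (MK <<< j)) * (((B <<< 111) >>> (114 * j)) &&& (RW <<< (111 - j))) = _
  rw [e1, e2, Nat.shiftLeft_eq, Nat.shiftLeft_eq, Nat.shiftLeft_eq, mul_mul_mul_comm, ← pow_add,
    show j + (111 - j) = 111 by omega]

theorem bt_mR (A B n m : ℕ) : bt (mR A B n) m = ∑ j ∈ Finset.range n, bt (tm A B j) m := by
  induction n with
  | zero => simp [mR, bt]
  | succ n ih => rw [Finset.sum_range_succ, ← ih]; exact bt_xor _ _ _

theorem mt_mm (A B : ℕ) : mt (mm A B) = mt A * mt B := by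
  ext i k
  have hi := i.2
  have hk := k.2
  rw [Matrix.mul_apply, mm, force_eq, force_eq, mU_eq]
  show bt (mR A (B <<< 111) 112 >>> 111) _ = ∑ j : Fin 112, bt A (113 * i + j) * bt B (113 * j + k)
  rw [bt_congr (Nat.testBit_shiftRight _), bt_mR, Finset.sum_range]
  refine Finset.sum_congr rfl fun j _ => bt_of ?_
  rw [tm_eq _ _ j.2, Nat.testBit_shiftLeft, Nat.add_sub_cancel_left, MK_eq,
    spread ((land_RW_lt _).trans (by norm_num)) (by omega), Nat.testBit_and, bit_RW, Nat.testBit_shiftRight,
    Nat.testBit_shiftRight, add_comm (j : ℕ)]
  simp [hi, hk]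

def fd (s x : ℕ) : ℕ := Nat.xor x (Nat.shiftRight x s)

/-- vector times matrix -/
def vm (v B : ℕ) : ℕ := Nat.land (fd (nat_lit 113) (fd (nat_lit 226) (fd (nat_lit 452) (fd (nat_lit 904) (fd (nat_lit 1808)
  (fd (nat_lit 3616) (fd (nat_lit 7232) (Nat.land (Nat.mul (Nat.land (Nat.mul RP (Nat.land v RW)) MK) RW) B)))))))) RW

theorem sum_fd (n x k : ℕ) : ∑ i ∈ Finset.range n, bt (fd (113 * n) x) (113 * i + k) =
    ∑ i ∈ Finset.range (n + n), bt x (113 * i + k) := by
  rw [Finset.sum_range_add, ← Finset.sum_add_distrib]
  refine Finset.sum_congr rfl fun i _ => ?_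
  show bt (x ^^^ (x >>> (113 * n))) _ = _
  rw [bt_xor, bt_congr (Nat.testBit_shiftRight _), show 113 * n + (113 * i + k) = 113 * (n + i) + k by ring]

theorem vm_lt (v B : ℕ) : vm v B < 2 ^ 112 := land_RW_lt _

theorem vt_vm (v B : ℕ) : vt (vm v B) = vt v ᵥ* mt B := by
  ext k
  have hk := k.2
  obtain ⟨x, hx⟩ : ∃ x, x = (((RP * (v &&& RW)) &&& MK) * RW) &&& B := ⟨_, rfl⟩
  have e : vm v B = fd (113 * 1) (fd (113 * 2) (fd (113 * 4) (fd (113 * 8) (fd (113 * 16) (fd (113 * 32)
    (fd (113 * 64) x)))))) &&& RW := by rw [hx]; rfl
  have e1 : ∀ y, bt (y &&& RW) k = ∑ i ∈ Finset.range 1, bt y (113 * i + k) := fun y => by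
    rw [Finset.sum_range_one]
    exact bt_congr (by rw [Nat.testBit_and, bit_RW]; simp [hk])
  have e2 : ∀ i, x.testBit (113 * i + k) = (decide (i < 112) && (v.testBit i && B.testBit (113 * i + k))) := fun i => by
    rw [hx, Nat.testBit_and, MK_eq, spread (by rw [RW_eq]; norm_num) (by omega), bit_RW]
    by_cases hi : i < 112
    · rw [show 113 * i = 112 * i + i by ring, ← Nat.and_self RP, RP_eq, spread (land_RW_lt _) hi, Nat.testBit_and, bit_RW]
      have := bit_msk (S := 112) (k := 0) (by norm_num) 112 i
      rw [add_zero] at this
      rw [this]; simp [hi, hk]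
    · simp [hi]
  show bt (vm v B) k = ∑ i : Fin 112, bt v i * bt B (113 * i + k)
  rw [e, e1, sum_fd, sum_fd, sum_fd, sum_fd, sum_fd, sum_fd, sum_fd, show 64 + 64 = 112 + 16 from rfl, Finset.sum_range_add,
    Finset.sum_range, Finset.sum_eq_zero (s := Finset.range 16) (fun i _ => by rw [bt, e2]; simp), add_zero]
  exact Finset.sum_congr rfl fun i _ => bt_of (by rw [e2]; simp)

end CA.BM
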