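import Cfsg.Agent.Lib.J4.MCls

/-!
The involutions of `H = C(z)` and their fusion.
-/

set_option autoImplicit false
set_option linter.unusedSectionVars false
set_option linter.unusedVariables false
set_option maxRecDepth 100000

namespace CA.J4
open Cfsg CA.Gol CA.Ex2 CA.XS Subgroup
open scoped Pointwise

def TE : ℕ := 0x4c3113003044c0330003134c030c0c110003c0c3300c040c3410101cc3030143003c00d700ff00f1007f0000000000f10f03c0400701c000f050000c300003000d50300300c040010ff0c0000330c00400000000000000001371400dcddc45dd01100004344310c3c004011000c30043c44431330111c4c0103340c04c401133104101343c004104010c0043030c3403303131000131113310131011010030305005f00101400c000cc000c030030003014300000000050351c300000000c71d0c00001000331f0000450400410000411050d0c0040c0304d030c0f0050f0d04000c13c4000013c400014c33cc03c411301400c0300cc001001c41c30c3c000300400c303c140101c0013000000c03030001cc100304134c31cc114c4c03cc03040407050d010d00050101040c01000c00153f000005d700cd00001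0770000050000d3000000cc550000fffd0000057107000fd003f00fc03004500c0003c005044c04c400000333400cc0c001311310013014c0104300100040c1040304000001100044000104400c4c1133400c301130c33c000cc114030000300134030c4010071fc3000000000000000073f174f1100400300d705003700101300150300f500001070401c07003000070707000054000710000c10004c1000c000011001110340c0c34043030c340c040c141c3401140c43300404430304c040100c0cc0000000000450c4130000000004015353d05f0d00d10010c50400001100f0000050c040001cc0c310044c03103c04c1310401c030c0004000c14011c03100114c141c101c3c0404040c1c1c00000c001c0cc300100c003300c314c4401030000030405f0d0f000010c050340d0d0d0040300110001cf00450007000100001f00713010c0304040d070030c000f03030d07ff0000fdd7000000c000005d110000c11404c0c0c3430014c100340030000341010c1100c4010c30330c31040003c00330131010400c4ccc444c400c110111133003001cc10400431040011c031c3441c0710000171000000000000100000005000dd00d7005000f5000300cf000300003f003d0100dd00f0d5000503000400c00003445ddd40000540f00000000c31cc1343c4003043040c1300cc300100cc1c0cc440cc444c0c0331303011011031000310c330c330c000c034010c003040100c1141003033034300441c01c1001c00054c1007f00005100f57700730000cc030f07017030f0c030f050f0010405005c007d003300540000dd0035000c00f010400307c0300d0fd0500f00403003013144403144303144cc03004c01c44431140c3c3c4303c3013414003041014001100100c1c330030cc300011c1c0014c0010300440004013103310cc404040031c00f0ff000010f500100400d0040700db0f0f7007c3c1c00c4dfc0107f7fd7a0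
def LE : ℕ := 0x4821128412844821841221482148841282824242242428281818282882828181005500aa005500aa005500aa005500aa090aa0600a0690a0a090060a60a00a0906a0a0090a90600a0a90600a06a0a009000000000000000055555555aaaaaaaa422481182442188181184224188124428848122221228884221248888488222118428124248142184218248181241842121212121212121212121212121212129006a00a0aa0096006900aa0a00a60095aaa00000000a5aaaa5a00000000aaa5a50000aa00aa5a00005aaa00aa0000a56060a0a00a0a06069090a0a00a0a0909228412882188224888128422482288212828428124188282241882822828428182422428282442828182281818288281481284212184124812482184842148120606060606060606060606060606060600aa96000096aa00690000aaaa000069000055aa000055aa000055aa000055aa0960069006900960900660096009900688848488122222128848488821222221422824822881821824824228821828811221844821124884844812214884211218822482284228811882248228422881555555550000000000000000aaaaaaaa900a06a006a0900aa0090a600a60a00960a0060a060a60a00a09a090a0900a09aa00960000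6900aa9600aa0000aa00692824242828181828428282428182828122488422128888212248842212888821000000005555555500000000aaaaaaaa066090096006099090090660099060064884222248842222888812218888122182288118422482282442288228821881424242424242424242424242424242428821228448221288128848222284882109069060609006090609609090600906009900aa6600aa00aa00660000aa009990a090a060a060a00a060a060a090a09550000aa550000aa550000aa550000aa18244281428118248142241824188142124822884812882222882184882284212212221248884888848884882221222128828124421828821842822882282481aa66000066aa0000000099aa0000aa99600a900a600a900aa006a009a006a00909a00a90a006600a0a6006a0900aa009000069aaaa96000096aa00000000aa69822418828224188242282881422828814848888884848888222212122222212188128821842248228422482288128821428218288281282418284282282482810066aa00990000aa00aa6600aa000099060a0a06a09090a0a06060a0090a0a095a00aa00aa005a0000a500aa00aa00a590600a0aa0a0060990600a0aa0a006091284882284122288882221482288482118281828824282422428242882818281284218828218422881288224248228812221884884881222122284888848222160060aa0a00a09900660a00a0aa09009a59969559969a55569a5995555555554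
def YM : ℕ := 0x100003000200024001c00a00050000120031000100030006000d
def mvE (u : ℕ) : ℕ := lin (sel4 (t2 TE u) XN FN OM YM) u
theorem LE_chk : allLt (fun u => force (t2 LE u) fun l => Nat.beq l 0 && (Nat.beq u 0 || Nat.beq (qf u) 1) ||
    Nat.beq l 1 && Nat.beq (wk mvE 1 21 10 u) 1 || Nat.beq l 2 && Nat.beq (wk mvE 1 21 10 u) 21) 4096 = true := by
  decide +kernel
def O1386 : List ℕ := (List.range 4096).filter fun u => Nat.beq (t2 LE u) 2
theorem O693_eq : (List.range 4096).filter (fun u => Nat.beq (t2 LE u) 1) = O693 := by decide +kernel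
def o48 : List ℕ := [508, 596, 936]
def o96 : List ℕ := [20, 40, 60, 448, 576, 896]
def cI6 : List ℕ := [0xbc0e27ae922a98d40464aa67633a20, 0xba0472b2847a9768553208e6d33a20, 0xbcaa14b6901aacb208a83be6c33a20,
  0xbbacc4890a1c2a78b4b45be6134880, 0xbc56d486141a0f5730aab3e6231240, 0xba99628a0e7a2a7a2d3168e6131240]
def eH : List ℕ := spanL [12, 4, 128, 192] 0
def bS0 : List ℕ := [97, 147, 281, 567, 1059, 2066]
def bS1 : List ℕ := [83, 178, 311, 558, 1042, 2097]
def bS2 : List ℕ := [114, 161, 302, 537, 1073, 2083]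

theorem sumL_filter {ι : Type} (L : List ι) (P : ι → Bool) (f : ι → ℕ) :
    sumL (L.filter P) f = sumL L fun a => cnd (P a) (f a) 0 := by
  induction L with
  | nil => rfl
  | cons a L ih => rw [sumL_cons, ← ih, List.filter_cons]; cases P a <;> simp [cnd, sumL_cons]

variable {G : Type*} [Group G] [Finite G]

/-- sum over a pair `{x, xz}` -/
noncomputable def PS (E : Subgroup G) (c : ℕ → G) (z p : G) (φ : G → ℕ) (u A d : ℕ) : ℕ := sm {x | Rp E c z p x u A d} φ
/-- sum over a coset of `E` -/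
noncomputable def CS (E : Subgroup G) (c : ℕ → G) (z p : G) (φ : G → ℕ) (A d : ℕ) : ℕ := sm {x | ∃ u, Rp E c z p x u A d} φ
/-- conjugacy of pairs -/
def Mv (E : Subgroup G) (c : ℕ → G) (z p : G) (u A u' A' d : ℕ) : Prop :=
  ∀ x, Rp E c z p x u A d → ∃ l ∈ 𝐂[z], Rp E c z p (l * x * l⁻¹) u' A' d
/-- sum over a fibre -/
noncomputable def FH {z : G} (π : ↥𝐂[z] →* Pm) (φ : G → ℕ) (g : Pm) : ℕ := sm {x | x ∈ 𝐂[z] ∧ pel π x = g} φ

theorem Mv.trans {E : Subgroup G} {c : ℕ → G} {z p : G} {u A u' A' u'' A'' d : ℕ} (a : Mv E c z p u A u' A' d)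
    (b : Mv E c z p u' A' u'' A'' d) : Mv E c z p u A u'' A'' d := fun x hx => by
  obtain ⟨l, hl, r⟩ := a x hx
  obtain ⟨m, hm, r'⟩ := b _ r
  exact ⟨m * l, mul_mem hm hl, by rwa [show m * l * x * (m * l)⁻¹ = m * (l * x * l⁻¹) * m⁻¹ by group]⟩

namespace JX
variable {z p s : G} {E : Subgroup G} {π : ↥𝐂[z] →* Pm} {c : ℕ → G} (h : JX z p s E π c)
include h

theorem ps_eq {x : G} {u A d : ℕ} (r : Rp E c z p x u A d) (φ : G → ℕ) : PS E c z p φ u A d = φ x + φ (x * z) := by
  rw [PS, show {y | Rp E c z p y u A d} = {x, x * z} from Set.ext fun y => h.rp_pair r,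
    sm_pair (by simpa using h.ez.ne_one)]

theorem ps_mv {k : G} {u A u' A' d : ℕ} (a : NA c z p k A d) (hu : u < 4096) (m : Mv E c z p u A u' A' d) {φ : G → ℕ}
    (hφ : ∀ g ∈ 𝐂[z], ∀ x, φ (g * x * g⁻¹) = φ x) : PS E c z p φ u A d = PS E c z p φ u' A' d := by
  obtain ⟨l, hl, r⟩ := m _ (h.rp_c a hu)
  rw [h.ps_eq (h.rp_c a hu), h.ps_eq r, hφ l hl, ← hφ l hl (_ * z), ← conj_mul, h.z_conj hl (mem_zpowers z)]

theorem cs_list {A d : ℕ} {L : List ℕ} (hL : L.Nodup) {φ : G → ℕ} (h0 : ∀ x u, Rp E c z p x u A d → φ x ≠ 0 → u ∈ L) :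
    CS E c z p φ A d = sumL L fun u => PS E c z p φ u A d :=
  sm_list (T := fun u => {x | Rp E c z p x u A d}) φ (hL.imp fun e x a b => e (h.rp_unique a b).1)
    (fun x ⟨u, r⟩ a => ⟨u, h0 x u r a, r⟩) fun u _ x r => ⟨u, r⟩

theorem fh_eq {k : G} {B B1 B2 d : ℕ} (a : NA c z p k B d) (H : (Nat.beq (mm OM B) B1 && Nat.beq (mm OM B1) B2 &&
    !(Nat.beq (lin B 1) (lin B1 1)) && !(Nat.beq (lin B 1) (lin B2 1)) && !(Nat.beq (lin B1 1) (lin B2 1))) = true)
    (φ : G → ℕ) : FH π φ (pel π k) = CS E c z p φ B d + CS E c z p φ B1 d + CS E c z p φ B2 d := by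
  simp only [Bool.and_eq_true, beq_iff, Bool.not_eq_true', beq_false_iff] at H
  obtain ⟨⟨⟨⟨rfl, rfl⟩, h1⟩, h2⟩, h3⟩ := H
  have a1 := h.na_mul h.na_p a
  rw [Nat.zero_xor] at a1
  have a2 := h.na_mul h.na_p a1
  rw [Nat.zero_xor] at a2
  have e1 : pel π (p * k) = pel π k := by rw [pel_mul _ h.p_mem a.mem, h.pi_p, one_mul]
  have e2 : pel π (p * (p * k)) = pel π k := by rw [pel_mul _ h.p_mem a1.mem, h.pi_p, one_mul, e1]
  have dj : ∀ {A A'}, lin A 1 ≠ lin A' 1 → ∀ x ∈ {x | ∃ u, Rp E c z p x u A d}, x ∉ {x | ∃ u, Rp E c z p x u A' d} :=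
    fun e x ⟨u, r⟩ ⟨u', r'⟩ => e ((h.rp_unique r r').2 1 (by norm_num))
  rw [CS, CS, CS, ← sm_union _ (dj h1), ← sm_union (S := _ ∪ _) _ fun x hx => Or.elim hx (dj h2 x) (dj h3 x), FH]
  congr 1; ext x
  refine ⟨fun ⟨a', b⟩ => ?_, ?_⟩
  · obtain ⟨u, r | r | r⟩ := h.exists_rp a' a b
    exacts [Or.inl (Or.inl ⟨u, r⟩), Or.inl (Or.inr ⟨u, r⟩), Or.inr ⟨u, r⟩]
  · rintro ((⟨u, r⟩ | ⟨u, r⟩) | ⟨u, r⟩)
    exacts [⟨h.rp_mem r, h.rp_pi a r⟩, ⟨h.rp_mem r, e1 ▸ h.rp_pi a1 r⟩, ⟨h.rp_mem r, e2 ▸ h.rp_pi a2 r⟩]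

theorem fh_conj {l : G} (hl : l ∈ 𝐂[z]) (r : Pm) (φ : G → ℕ) :
    FH π φ (pel π l * r * (pel π l)⁻¹) = FH π (fun x => φ (l * x * l⁻¹)) r :=
  sm_equiv (MulAut.conj l).toEquiv (S := {x | x ∈ 𝐂[z] ∧ pel π x = r})
    (T := {x | x ∈ 𝐂[z] ∧ pel π x = pel π l * r * (pel π l)⁻¹}) (fun x => ⟨fun ⟨a, b⟩ => ⟨conj_H hl a, by
    show pel π (l * x * l⁻¹) = _
    rw [pel_conj _ hl a, b]⟩, fun ⟨a, b⟩ => by
    have a' : x ∈ 𝐂[z] := by simpa [mul_assoc] using conj_H (inv_mem hl) a
    refine ⟨a', ?_⟩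
    change pel π (l * x * l⁻¹) = _ at b
    rw [pel_conj _ hl a'] at b
    simpa using b⟩) φ

theorem sm_H {φ : G → ℕ} (h0 : ∀ x, φ x ≠ 0 → x * x = 1) : sm 𝐂[z] φ =
    FH π φ 1 + sm (clD (perm i2C)) (FH π φ) + sm (clD (perm j2C)) (FH π φ) + sm (clD (perm sC)) (FH π φ) := by
  rw [← sm_D2 (φ := FH π φ) fun g _ h2 => sm_zero fun x hx => by_contra fun a => h2 (by
    rw [← hx.2, ← pel_mul _ hx.1 hx.1, h0 x a, pel_one]), sm_fiber (C := D2) (f := pel π) fun x hx => h.pi_mem hx]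
  rfl

theorem sm_cl_inv {φ : G → ℕ} (hφ : ∀ g ∈ 𝐂[z], ∀ x, φ (g * x * g⁻¹) = φ x) (r : Pm) :
    sm (clD r) (FH π φ) = (clD r).ncard * FH π φ r := sm_const fun g ⟨d, hd, e⟩ => by
  obtain ⟨l, hl, rfl⟩ := h.exists_pi hd
  rw [← e, h.fh_conj hl]; exact sm_congr fun x _ => hφ l hl x

theorem na_code {g M : ℕ} (H : (in22 g && Nat.beq (matOf g) M) = true) : ∃ k, NA c z p k M 0 ∧ pel π k = perm g := by
  rw [Bool.and_eq_true, beq_iff] at H
  obtain ⟨k, a, e⟩ := h.na_lift (perm_mem22 H.1)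
  rw [code_perm22 H.1, H.2] at a
  exact ⟨k, a, e⟩

theorem na_om {k : G} {A d : ℕ} (a : NA c z p k A d) : NA c z p (p * k) (mm OM A) d ∧ pel π (p * k) = pel π k :=
  ⟨by simpa using h.na_mul h.na_p a, by rw [pel_mul _ h.p_mem a.mem, h.pi_p, one_mul]⟩

theorem na_I : ∃ k ∈ 𝐂[z] ⊓ 𝐂[p], NA c z p k AI 0 ∧ pel π k = perm i2C := by
  obtain ⟨k, hk, e, a⟩ := JH.exists_lift h (perm_mem22 i2C_in) (M := AI) (by rw [code_perm22 i2C_in]; decide +kernel)
  exact ⟨k, hk, ⟨hk.1, cent1_le_norm p hk.2, a, fun n hn => lin_lt_of_cols (n := 12) (m := 12) (by norm_num)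
    (by decide +kernel) hn, by norm_num⟩, e⟩
theorem na_out {g : Pm} (hg : g ∈ D2) (hn : g ∉ Spor.M22) :
    ∃ k, NA c z p k (mm SN (matOf (Gol.mul sC (code g)))) 1 ∧ pel π k = g := by
  obtain ⟨k, a, e⟩ := h.na_lift ((mem_or_D2 hg).resolve_left hn)
  rw [code_mul, cs] at a
  exact ⟨_, h.na_mul h.na_s a, by rw [pel_mul _ h.s_mem a.mem, h.s_pi, e, ← mul_assoc, s0_sq, one_mul]⟩
theorem na_J : ∃ k, NA c z p k AJ0 1 ∧ pel π k = perm j2C := by
  obtain ⟨k, a, e⟩ := h.na_out j2_mem j2_not_mem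
  rw [code_perm' j2C_in, show mm SN (matOf (Gol.mul sC j2C)) = AJ0 by decide +kernel] at a
  exact ⟨k, a, e⟩
theorem na_S : NA c z p s AS0 1 := (show SN = AS0 by decide +kernel) ▸ h.na_s

theorem mv_refl (u A d : ℕ) : Mv E c z p u A u A d := fun x r => ⟨1, one_mem _, by simpa using r⟩
theorem mv_lift {l k : G} {M A B d : ℕ} (m : NA c z p l M 0) (b : NA c z p k B d) (e : mm B M = mm M A) (u : ℕ) :
    Mv E c z p u A (lin M u) B d := fun x r => ⟨l, m.mem, h.rp_conj m b e r⟩
theorem mv_E {e : ℕ} (he : e < 4096) (u A d : ℕ) : Mv E c z p u A (u ^^^ (e ^^^ lin A e)) A d := fun x r =>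
  ⟨c e, h.E_le (h.c_mem (by omega)), by simpa [JH.wv_c' h he] using h.rp_conj_E (h.c_mem (a := e) (by omega)) r⟩

theorem mv_wk (u : ℕ) : Mv E c z p u I13 (wk mvE 1 21 10 u) I13 0 :=
  wk_ind (P := fun v => Mv E c z p u I13 v I13 0) (fun v a => a.trans (by
    obtain ⟨l, m, e⟩ := sel4_ind (P := fun M => ∃ l, NA c z p l M 0 ∧ mm I13 M = mm M I13) (t2 TE v)
      ((h.na_code (g := xC) (M := XN) (by decide +kernel)).imp fun l a => ⟨a.1, by decide +kernel⟩)
      ((h.na_code (g := fC) (M := FN) (by decide +kernel)).imp fun l a => ⟨a.1, by decide +kernel⟩)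
      ⟨p, h.na_p, by decide +kernel⟩
      ((h.na_code (g := yC) (M := YM) (by decide +kernel)).imp fun l a => ⟨a.1, by decide +kernel⟩)
    exact h.mv_lift m h.na_one e v)) 1 21 10 (h.mv_refl u I13 0)

theorem mv_I {t : ℕ} {L : List ℕ} (H : fmapL matOf cI6 (fun Ms => cnd (allL L fun u => anyL (I13 :: Ms) fun M =>
    force (lin M u) fun w => anyL eH fun e => Nat.beq (Nat.xor w (Nat.xor e (lin AI e))) t) 1 0) = 1) {u : ℕ} (hu : u ∈ L) :
    Mv E c z p u AI t AI 0 := by
  obtain ⟨k, -, a, -⟩ := h.na_I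
  rw [fmapL_eq] at H
  have H' : (allL L fun u => anyL (I13 :: cI6.map matOf) fun M =>
      force (lin M u) fun w => anyL eH fun e => Nat.beq (Nat.xor w (Nat.xor e (lin AI e))) t) = true := by
    by_contra H'; rw [Bool.not_eq_true] at H'; rw [H', cnd_false] at H; omega
  obtain ⟨M, hM, e1⟩ := anyL_iff.1 (allL_iff.1 H' u hu)
  rw [force_eq] at e1
  obtain ⟨e, he, e2⟩ := anyL_iff.1 e1
  have k1 : allL eH (fun e => Nat.blt e 4096) = true := by decide +kernel
  have k2 : allL cI6 (fun g => in22 g && Nat.beq (mm AI (matOf g)) (mm (matOf g) AI)) = true := by decide +kernel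
  rw [← beq_iff.1 e2]
  refine Mv.trans ?_ (h.mv_E (blt_iff.1 (allL_iff.1 k1 e he)) _ AI 0)
  rcases List.mem_cons.1 hM with rfl | hM
  · exact h.mv_lift h.na_one a (by decide +kernel) u
  · obtain ⟨g, hg, rfl⟩ := List.mem_map.1 hM
    have := allL_iff.1 k2 g hg
    rw [Bool.and_eq_true, beq_iff] at this
    obtain ⟨l, m, -⟩ := h.na_code (g := g) (M := matOf g) (by rw [this.1, beq_iff.2 rfl]; rfl)
    exact h.mv_lift m a this.2 u

theorem mv_fix {A d : ℕ} {L : List ℕ} (H : allL L (fun u => Nat.beq (Nat.xor u (Nat.xor (om u) (lin A (om u)))) 0) = true)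
    {u : ℕ} (hu : u ∈ L) : Mv E c z p u A 0 A d := by
  rw [← beq_iff.1 (allL_iff.1 H u hu)]; exact h.mv_E (om_lt u) u A d

theorem mv_p {k : G} {A B d : ℕ} (b : NA c z p k B d) (e : mm B OM = mm OM A) : Mv E c z p 0 A 0 B d := by
  simpa [lin_zero] using h.mv_lift h.na_p b e 0

theorem conj_xz {x : G} {u A d e : ℕ} (r : Rp E c z p x u A d) (H : (Nat.blt e 4096 && Nat.beq (lin A e) e &&
    Nat.beq (Nat.add (bf e u) (Nat.land d (qf e))) 1) = true) : ∃ g ∈ 𝐂[z], g * x * g⁻¹ = x * z := by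
  simp only [Bool.and_eq_true, beq_iff, blt_iff, Nat.add_eq, Nat.land_eq] at H
  obtain ⟨⟨h1, h2⟩, h3⟩ := H
  obtain ⟨f, hf, k, a, rfl, rfl⟩ := r
  have he := h.c_mem (a := e) (by omega)
  have e1 := h.na_conj a h1
  rw [h2] at e1
  have e2 : c e * f * (c e)⁻¹ = f * z ^ bf e (wv c f) := by
    have := JH.comm_iff h he hf
    rw [JH.wv_c' h h1] at this
    rcases Nat.lt_succ_iff_lt_or_eq.1 (bf_lt e (wv c f)) with b | b
    · rw [Nat.lt_one_iff.1 b, this.2 (Nat.lt_one_iff.1 b)]; simp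
    · rw [b, pow_one]; exact (h.ez.comm_or he hf).resolve_left fun a => by rw [this.1 a] at b; omega
  have zz : ∀ n, z ^ n ∈ zpowers z := fun n => pow_mem (mem_zpowers z) n
  refine ⟨_, h.E_le he, ?_⟩
  rw [show c e * (f * k) * (c e)⁻¹ = c e * f * (c e)⁻¹ * (c e * (k * c e * k⁻¹)⁻¹) * k by group, e2, e1, mul_inv_rev,
    ← mul_assoc (c e), ← h.z_comm (h.E_le he) (inv_mem (zz _)), mul_inv_cancel_right, mul_assoc f, mul_assoc f,
    h.z_comm a.mem (mul_mem (zz _) (inv_mem (zz _))), mul_assoc f]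
  congr 2
  generalize bf e (wv c f) = i at *
  generalize d &&& qf e = j at *
  rcases (show i = 0 ∧ j = 1 ∨ i = 1 ∧ j = 0 by omega) with ⟨rfl, rfl⟩ | ⟨rfl, rfl⟩ <;> simp [h.ez.inv]

variable (hq : ∀ k ∈ 𝐍(zpowers p), k * k ≠ z) {φ : G → ℕ} (h0 : ∀ x, φ x ≠ 0 → x * x = 1)
include hq h0

omit hq in
theorem cs_zero {A d : ℕ} (H : mm A A ≠ I13) : CS E c z p φ A d = 0 :=
  sm_zero fun x ⟨u, r⟩ => by_contra fun a => H (h.rp_inv' r (h0 x a))

theorem cs_inv {A d : ℕ} {L : List ℕ} (hL : L.Nodup) (hA : mm A A = I13) (H : allLt (fun u => !(Nat.beq (lin A u) u) ||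
    (Nat.beq d 0 && Nat.beq (qf u) 1 || memL u L)) 4096 = true) : CS E c z p φ A d = sumL L fun u => PS E c z p φ u A d :=
  h.cs_list hL fun x u r a => by
    obtain ⟨e1, e2⟩ := (h.rp_inv hq r hA).1 (h0 x a)
    have := allLt_iff.1 H u r.lt
    simp only [e1, beq_iff.2 rfl, Bool.not_true, Bool.false_or, Bool.or_eq_true, Bool.and_eq_true, beq_iff, memL_iff] at this
    exact this.resolve_left fun b => by rw [e2 b.1] at b; omega

theorem fh_one : FH π φ 1 = PS E c z p φ 0 I13 0 + sumL O693 (fun u => PS E c z p φ u I13 0) +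
    sumL O1386 fun u => PS E c z p φ u I13 0 := by
  rw [← pel_one π, h.fh_eq h.na_one (B1 := OM) (B2 := mm OM OM) (by decide +kernel), h.cs_zero h0 (A := OM) (by decide +kernel),
    h.cs_zero h0 (A := mm OM OM) (by decide +kernel), h.cs_list List.nodup_range fun x u r _ => List.mem_range.2 r.lt,
    ← O693_eq, O1386, sumL_filter, sumL_filter, show PS E c z p φ 0 I13 0 = sumL ((List.range 4096).filter (Nat.beq · 0))
      fun u => PS E c z p φ u I13 0 by rw [show (List.range 4096).filter (Nat.beq · 0) = [0] by decide +kernel]; rfl,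
    sumL_filter, ← sumL_add, ← sumL_add, add_zero, add_zero]
  refine sumL_congr fun u hu => ?_
  have := allLt_iff.1 LE_chk u (List.mem_range.1 hu)
  simp only [force_eq, Bool.or_eq_true, Bool.and_eq_true, beq_iff] at this
  rw [cnd_beq, cnd_beq, cnd_beq]
  have z0 : t2 LE 0 = 0 := by decide +kernel
  rcases this with (⟨a, b | b⟩ | ⟨a, -⟩) | ⟨a, -⟩
  · simp [a, b, z0]
  · have : PS E c z p φ u I13 0 = 0 := sm_zero fun x r => by_contra fun e => by
      have := ((h.rp_inv hq r (by decide +kernel)).1 (h0 x e)).2 rfl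
      omega
    simp [this]
  all_goals
    have : u ≠ 0 := fun e => by rw [e, z0] at a; omega
    simp [a, this]

theorem fh_I : FH π φ (perm i2C) = sumL (spans bI [0]) (fun u => PS E c z p φ u AI 0) +
    sumL (spans bI o48) (fun u => PS E c z p φ u AI 0) + sumL (spans bI o96) fun u => PS E c z p φ u AI 0 := by
  obtain ⟨k, -, a, e⟩ := h.na_I
  rw [← e, h.fh_eq a (B1 := mm OM AI) (B2 := mm OM (mm OM AI)) (by decide +kernel),
    h.cs_zero h0 (A := mm OM AI) (by decide +kernel), h.cs_zero h0 (A := mm OM (mm OM AI)) (by decide +kernel),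
    h.cs_inv hq h0 (L := spans bI [0] ++ spans bI o48 ++ spans bI o96) (by decide +kernel) (by decide +kernel)
      (by decide +kernel), sumL_append, sumL_append, add_zero, add_zero]

theorem fh_J : FH π φ (perm j2C) = sumL (spans bJ0 [0]) (fun u => PS E c z p φ u AJ0 1) +
    (sumL (spans bJ1 [0]) (fun u => PS E c z p φ u AJ1 1) + sumL (spans bJ2 [0]) fun u => PS E c z p φ u AJ2 1) := by
  obtain ⟨k, a, e⟩ := h.na_J
  rw [← e, h.fh_eq a (B1 := AJ2) (B2 := AJ1) (by decide +kernel),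
    h.cs_inv hq h0 (L := spans bJ0 [0]) (by decide +kernel) (by decide +kernel) (by decide +kernel),
    h.cs_inv hq h0 (L := spans bJ1 [0]) (A := AJ1) (by decide +kernel) (by decide +kernel) (by decide +kernel),
    h.cs_inv hq h0 (L := spans bJ2 [0]) (A := AJ2) (by decide +kernel) (by decide +kernel) (by decide +kernel)]
  omega

theorem fh_S : FH π φ (perm sC) = sumL (spans bS0 [0]) (fun u => PS E c z p φ u AS0 1) +
    (sumL (spans bS1 [0]) (fun u => PS E c z p φ u AS1 1) + sumL (spans bS2 [0]) fun u => PS E c z p φ u AS2 1) := by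
  rw [show perm sC = pel π s from h.s_pi.symm, h.fh_eq h.na_S (B1 := AS2) (B2 := AS1) (by decide +kernel),
    h.cs_inv hq h0 (L := spans bS0 [0]) (by decide +kernel) (by decide +kernel) (by decide +kernel),
    h.cs_inv hq h0 (L := spans bS1 [0]) (A := AS1) (by decide +kernel) (by decide +kernel) (by decide +kernel),
    h.cs_inv hq h0 (L := spans bS2 [0]) (A := AS2) (by decide +kernel) (by decide +kernel) (by decide +kernel)]
  omega

omit hq h0

theorem lab_E {u : ℕ} : (u ∈ O693 → u < 4096 ∧ Mv E c z p u I13 1 I13 0) ∧ (u ∈ O1386 → u < 4096 ∧ Mv E c z p u I13 21 I13 0) := by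
  rw [← O693_eq, O1386]
  simp only [List.mem_filter, List.mem_range, beq_iff]
  refine ⟨fun ⟨a, b⟩ => ⟨a, ?_⟩, fun ⟨a, b⟩ => ⟨a, ?_⟩⟩ <;>
  · have := allLt_iff.1 LE_chk u a
    simp only [force_eq, b, Bool.or_eq_true, Bool.and_eq_true, beq_iff] at this
    have e := h.mv_wk u
    rcases this with (⟨a, -⟩ | ⟨a, e'⟩) | ⟨a, e'⟩ <;> first | omega | rwa [e'] at e

theorem lab_I {u : ℕ} : (u ∈ spans bI [0] → u < 4096 ∧ Mv E c z p u AI 0 AI 0) ∧
    (u ∈ spans bI o48 → u < 4096 ∧ Mv E c z p u AI 508 AI 0) ∧ (u ∈ spans bI o96 → u < 4096 ∧ Mv E c z p u AI 20 AI 0) :=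
  have l : ∀ os, allL (spans bI os) (Nat.blt · 4096) = true → u ∈ spans bI os → u < 4096 := fun os H hu =>
    blt_iff.1 (allL_iff.1 H u hu)
  ⟨fun a => ⟨l _ (by decide +kernel) a, h.mv_I (by decide +kernel) a⟩,
    fun a => ⟨l _ (by decide +kernel) a, h.mv_I (by decide +kernel) a⟩,
    fun a => ⟨l _ (by decide +kernel) a, h.mv_I (by decide +kernel) a⟩⟩

theorem lab_out {k : G} {A0 A1 A2 : ℕ} {b0 b1 b2 : List ℕ} (a : NA c z p k A0 1) (H : (Nat.beq (mm OM A0) A2 &&
    Nat.beq (mm A0 OM) (mm OM A2) && Nat.beq (mm A2 OM) (mm OM A1) && allL (b0 ++ b1 ++ b2) (Nat.blt · 4096)) = true)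
    (H0 : allL b0 (fun u => Nat.beq (Nat.xor u (Nat.xor (om u) (lin A0 (om u)))) 0) = true)
    (H1 : allL b1 (fun u => Nat.beq (Nat.xor u (Nat.xor (om u) (lin A1 (om u)))) 0) = true)
    (H2 : allL b2 (fun u => Nat.beq (Nat.xor u (Nat.xor (om u) (lin A2 (om u)))) 0) = true) {u : ℕ} :
    (u ∈ b0 → u < 4096 ∧ Mv E c z p u A0 0 A0 1) ∧ (u ∈ b1 → u < 4096 ∧ Mv E c z p u A1 0 A0 1) ∧
      (u ∈ b2 → u < 4096 ∧ Mv E c z p u A2 0 A0 1) := by
  simp only [Bool.and_eq_true, beq_iff, allL_iff, blt_iff, List.mem_append] at H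
  obtain ⟨⟨⟨e1, e2⟩, e3⟩, l⟩ := H
  have a2 := (h.na_om a).1
  rw [e1] at a2
  exact ⟨fun b => ⟨l u (by simp [b]), h.mv_fix H0 b⟩,
    fun b => ⟨l u (by simp [b]), (h.mv_fix H1 b).trans ((h.mv_p a2 e3).trans (h.mv_p a e2))⟩,
    fun b => ⟨l u (by simp [b]), (h.mv_fix H2 b).trans (h.mv_p a e2)⟩⟩

theorem lab_J {u : ℕ} : (u ∈ spans bJ0 [0] → u < 4096 ∧ Mv E c z p u AJ0 0 AJ0 1) ∧
    (u ∈ spans bJ1 [0] → u < 4096 ∧ Mv E c z p u AJ1 0 AJ0 1) ∧ (u ∈ spans bJ2 [0] → u < 4096 ∧ Mv E c z p u AJ2 0 AJ0 1) :=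
  h.lab_out h.na_J.choose_spec.1 (by decide +kernel) (by decide +kernel) (by decide +kernel) (by decide +kernel)
theorem lab_S {u : ℕ} : (u ∈ spans bS0 [0] → u < 4096 ∧ Mv E c z p u AS0 0 AS0 1) ∧
    (u ∈ spans bS1 [0] → u < 4096 ∧ Mv E c z p u AS1 0 AS0 1) ∧ (u ∈ spans bS2 [0] → u < 4096 ∧ Mv E c z p u AS2 0 AS0 1) :=
  h.lab_out h.na_S (by decide +kernel) (by decide +kernel) (by decide +kernel) (by decide +kernel)

theorem na_J12 : (∃ k, NA c z p k AJ1 1) ∧ ∃ k, NA c z p k AJ2 1 := by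
  obtain ⟨k, a, -⟩ := h.na_J
  have a2 := (h.na_om a).1
  rw [show mm OM AJ0 = AJ2 by decide +kernel] at a2
  have a1 := (h.na_om a2).1
  rw [show mm OM AJ2 = AJ1 by decide +kernel] at a1
  exact ⟨⟨_, a1⟩, _, a2⟩
theorem na_S12 : (∃ k, NA c z p k AS1 1) ∧ ∃ k, NA c z p k AS2 1 := by
  have a2 := (h.na_om h.na_S).1
  rw [show mm OM AS0 = AS2 by decide +kernel] at a2
  have a1 := (h.na_om a2).1
  rw [show mm OM AS2 = AS1 by decide +kernel] at a1
  exact ⟨⟨_, a1⟩, _, a2⟩

theorem sum_lab {k : G} {A u' A' d : ℕ} {L : List ℕ} (a : NA c z p k A d)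
    (m : ∀ {u}, u ∈ L → u < 4096 ∧ Mv E c z p u A u' A' d) (hφ : ∀ g ∈ 𝐂[z], ∀ x, φ (g * x * g⁻¹) = φ x) :
    sumL L (fun u => PS E c z p φ u A d) = L.length * PS E c z p φ u' A' d :=
  sumL_const fun u hu => h.ps_mv a (m hu).1 (m hu).2 hφ

include hq h0 in
theorem fh_one_inv (hφ : ∀ g ∈ 𝐂[z], ∀ x, φ (g * x * g⁻¹) = φ x) :
    FH π φ 1 = φ 1 + φ z + 693 * PS E c z p φ 1 I13 0 + 1386 * PS E c z p φ 21 I13 0 := by
  rw [h.fh_one hq h0, h.sum_lab h.na_one h.lab_E.1 hφ, h.sum_lab h.na_one h.lab_E.2 hφ,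
    show O693.length = 693 by decide +kernel, show O1386.length = 1386 by decide +kernel,
    h.ps_eq (x := 1) (by simpa [JH.wv_one h] using h.rp_E (one_mem E)), one_mul]

include hq h0 in
/-- sum of a class function over the involutions of `H` -/
theorem sm_H_inv (hφ : ∀ g ∈ 𝐂[z], ∀ x, φ (g * x * g⁻¹) = φ x) :
    sm 𝐂[z] φ = φ 1 + φ z + 693 * PS E c z p φ 1 I13 0 + 1386 * PS E c z p φ 21 I13 0 + 18480 * PS E c z p φ 0 AI 0 +
      55440 * PS E c z p φ 508 AI 0 + 110880 * PS E c z p φ 20 AI 0 + 63360 * PS E c z p φ 0 AJ0 1 +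
      266112 * PS E c z p φ 0 AS0 1 := by
  obtain ⟨k, -, a, -⟩ := h.na_I
  obtain ⟨k0, a0, -⟩ := h.na_J
  obtain ⟨⟨k1, a1⟩, k2, a2⟩ := h.na_J12
  obtain ⟨⟨l1, b1⟩, l2, b2⟩ := h.na_S12
  rw [h.sm_H h0, h.sm_cl_inv hφ, h.sm_cl_inv hφ, h.sm_cl_inv hφ, h.fh_one_inv hq h0 hφ, h.fh_I hq h0, h.fh_J hq h0,
    h.fh_S hq h0, h.sum_lab a h.lab_I.1 hφ, h.sum_lab a h.lab_I.2.1 hφ, h.sum_lab a h.lab_I.2.2 hφ,
    h.sum_lab a0 h.lab_J.1 hφ, h.sum_lab a1 h.lab_J.2.1 hφ, h.sum_lab a2 h.lab_J.2.2 hφ,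
    h.sum_lab h.na_S h.lab_S.1 hφ, h.sum_lab b1 h.lab_S.2.1 hφ, h.sum_lab b2 h.lab_S.2.2 hφ, ncard_clI, ncard_clJ, ncard_clS,
    show (spans bI [0]).length = 16 by decide +kernel, show (spans bI o48).length = 48 by decide +kernel,
    show (spans bI o96).length = 96 by decide +kernel, show (spans bJ0 [0]).length = 64 by decide +kernel,
    show (spans bJ1 [0]).length = 64 by decide +kernel, show (spans bJ2 [0]).length = 64 by decide +kernel,
    show (spans bS0 [0]).length = 64 by decide +kernel, show (spans bS1 [0]).length = 64 by decide +kernel,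
    show (spans bS2 [0]).length = 64 by decide +kernel]
  ring

end JX

end CA.J4
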