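import Cfsg.Agent.Lib.J4.HRep

/-!
The involutions of `C(t) = 2^11 : M22 : 2`.
-/

set_option autoImplicit false
set_option linter.unusedSectionVars false
set_option linter.unusedVariables false
set_option maxRecDepth 100000

namespace CA.J4
open Cfsg CA.Gol CA.Ex2 CA.XS Subgroup
open scoped Pointwise

/-- two-bit table lookup -/
def t2 (T i : ℕ) : ℕ := Nat.land (Nat.shiftRight T (Nat.mul 2 i)) 3
/-- walk towards a representative -/
def wk (mv : ℕ → ℕ) (r r' fuel u : ℕ) : ℕ :=
  Nat.rec u (fun _ ih => force ih fun v => cnd (Nat.beq v r || Nat.beq v r') v (mv v)) fuel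

theorem wk_ind {P : ℕ → Prop} {mv : ℕ → ℕ} (h : ∀ v, P v → P (mv v)) (r r' fuel : ℕ) {u : ℕ} (hu : P u) :
    P (wk mv r r' fuel u) := by
  induction fuel with
  | zero => exact hu
  | succ f ih =>
    have e : wk mv r r' (f + 1) u = force (wk mv r r' f u) fun v => cnd (Nat.beq v r || Nat.beq v r') v (mv v) := rfl
    rw [e, force_eq]
    cases (Nat.beq (wk mv r r' f u) r || Nat.beq (wk mv r r' f u) r')
    exacts [h _ ih, ih]

/-- selection among four values -/
def sel4 (i a b c d : ℕ) : ℕ := cnd (Nat.beq i 0) a (cnd (Nat.beq i 1) b (cnd (Nat.beq i 2) c d))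
theorem sel4_ind {P : ℕ → Prop} (i : ℕ) {a b c d : ℕ} (ha : P a) (hb : P b) (hc : P c) (hd : P d) : P (sel4 i a b c d) := by
  simp only [sel4, cnd_beq]; split_ifs <;> assumption

theorem sumL_cnd {ι : Type} (L : List ι) (P : ι → Bool) (a : ℕ) :
    sumL L (fun m => cnd (P m) a 0) = sumL L (fun m => cnd (P m) 1 0) * a := by
  rw [mul_comm, ← sumL_mul]; exact sumL_congr fun m _ => by cases P m <;> simp [cnd]
theorem sumL_add {ι : Type} (L : List ι) (f g : ι → ℕ) : sumL L (fun a => f a + g a) = sumL L f + sumL L g := by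
  simp [sumL_eq, List.sum_map_add]

def TV : ℕ := 0x421020410042810c104101184038384224810030022c3000420c2c420c4103042801c234c0280803003c30400802423cc3041cc01041421030430004c30414011c80822880082800400000c200c04010410c38021800430400838230800c24c3410800800402c12810018124c01838010000800040003482020c24c1244301280483032c81182c00c03030001c038224823c3c011c00432010c0c034c0181041c1080003140143140401c220000020000cc1c02c00182482421c08c12c020030812420823443c0140c428300001010c13841c320422008c3001418813881803400820020023410c1c2040082200103088104100320c3c3200c40401c0010300024824120c21400c2420c08820480c11003341001300041103042c130813c28c0c11800820840000810814124431c088010c3c02402100c03002020001003432c02142800344142141883c1204028188200c003048220104301300cc31803800408420138c130044382241c000c038324830c2c831081030030c0810cc22c3040c014180020c2800438810030431018011003030040340c01c11c1802040342201c40c204813000c1030c00030802c12c01081c023cc2010410c10338813c248004030334830800c2c03028c118410214400430021c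80c2180403c224801410c0032400012c8103080443c20cc00008001002801802142480401400803440000028410014c1002400c00410032803033080340040288080101081c01c81001801023004010000c10404424328001410820081401081142440811c100100c3812002042000180001003440c034801008011483c020831030010038388000014010044141100324300001100c021002432c430034c120c3c1102c03411442002cc002201842100183341c43c100810404c1184280388204184002203441104042301401c208412c2c83c03438c12001410441100cc1388201000c43820cc33408c020808128c3081002031c280030c34134032c04c1204341100003001402202c00001000000880431c180282084034284024c0830c80240c800204180014404000830820411001013408008108010410c310428034c02814c1800420020c41002410c1403043180881800804431c41c12080180c820c00c10c10434130013424000082021002340803410830810881420cc10010410c8000100800000800240c404024044028c2c32820008114000818c01802010043381040412404c0244000000003c11c00203040430814403080403c411c10012000c12c24818214c23c3480013804433081430424400338821808400c43c22c42001c80000c2c402c40c000822c00410000433834c2032c00202c403c43802c833c3c4003100c80084040001003c03042201000821418c014404000c32424c00c80000018c0000040000000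
def TL : ℕ := 0x82202882288182282482022880281882288280280228288282282842288282082881822881140881822828402801822882082842288182202042421482282842188282288028280280282881008080288204288228828228288282208018248282082082288182282882822840282882080082088208188281082842288202280842822882281880822818821802411882282802288282242880822882281082822820822801822828028228020018021882822880282882822808422402822882282082288282282882820880241882288282188120088202282882288282282082002082282082821820822802822882082082284282282882822882282880288242288228088282082882288282208224280228808218208282288128288282280882088100082082812842280882108282288228048200202042208282280224288028828128288282284028288224418224822420828224088228028228288282184220088242282802144242288204288228828228208282284228288082282801208282282882802882281882180202008228280282282402084282281880822882280842822428822802822841181802188282281082822882282880288282288208288281202842288202288024280228824228288282288228288082282082288282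280882822842282880188282280228288082282880288080002882801842282802820828822882822440280080144240282881802842202882022824822880822818828228822820822882802842282882822828020882812882282402280202002842822880282802288280284228280102281882288282282482412482282402822004822882821882082482208282282882822882242880822824822082822828818220822808822881802842082882011428812881822824824104822824828028248228028228822024822882021828818228822828802480412482182402022824822882822802282482288282280001022802282840412410410482412424824124822824802482412482282480022824801880800081082882208282240800820482042441288280284228288282081882288202242842822082280882820828822882822482282881280282282082822882182880288282288218280282081082288282248220188208828228188241188228188080282482288282282881822802282880288202288128284082281880288080002082822800102082420828822082822482282802208281282881822882282880822824822082822828820218812828800882822882242880822828802880400082180482104182182882822882182880288282288218288002281880248080002402412482182480822824802880800082282480288080002840800080000000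
def xiC : ℕ := 0xbaecaaa68899e468960478dc268580
def mvV (m : ℕ) : ℕ := red (apM (sel4 (t2 TV (Nat.shiftRight m 12)) xC fC xiC yC) m)
def LV : List ℕ := ((List.range 4096).map hi).filter ev
theorem LV_chk : allL LV (fun m => force m fun m => force (t2 TL (Nat.shiftRight m 12)) fun l => Nat.beq (red m) m &&
    (Nat.beq l 0 && memL m (0 :: duL) || Nat.beq l 1 && Nat.beq (wk mvV 0xda1000 0x684000 10 m) 0xda1000 ||
      Nat.beq l 2 && Nat.beq (wk mvV 0xda1000 0x684000 10 m) 0x684000)) = true := by decide +kernel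
theorem duL_chk : allL duL (fun m => ev m && Nat.beq (red m) m && anyLt (fun a => anyLt (fun b => !(Nat.beq a b) &&
    Nat.beq (red (Nat.xor (Nat.pow 2 a) (Nat.pow 2 b))) m) 24) 24) = true := by decide +kernel
theorem mem_LV {j : ℕ} (hj : j < 4096) (e : ev (hi j) = true) : hi j ∈ LV :=
  List.mem_filter.2 ⟨List.mem_map.2 ⟨j, List.mem_range.2 hj, rfl⟩, e⟩
theorem LV_nodup : LV.Nodup := (List.nodup_range.map fun a b e => Nat.eq_of_mul_eq_mul_right (by norm_num) e).filter _

variable {G : Type*} [Group G] [Finite G]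

theorem dbl_count (a b : G) : sm 𝐂[a] (fun y => ind (IsConj b y)) * Nat.card 𝐂[b] =
    sm 𝐂[b] (fun x => ind (IsConj a x)) * Nat.card 𝐂[a] := by
  have key : ∀ a b : G, (sm Set.univ fun y => sm Set.univ fun x => ind (IsConj a x ∧ IsConj b y ∧ x * y = y * x)) *
      Nat.card 𝐂[b] = sm 𝐂[b] (fun x => ind (IsConj a x)) * Nat.card G := fun a b => by
    rw [sm_supp (S := {y | IsConj b y}) (T := Set.univ) (fun _ _ => trivial) fun y _ hy => sm_zero fun x _ => ind_neg fun c => hy c.2.1,
      sm_const (n := sm 𝐂[b] fun x => ind (IsConj a x)), ncard_isConj, mul_right_comm, index_mul_card, mul_comm]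
    intro y hy
    obtain ⟨g, rfl⟩ := isConj_iff.1 hy
    rw [sm_supp (S := (𝐂[g * b * g⁻¹] : Subgroup G)) (T := Set.univ) (fun _ _ => trivial) fun x _ hx => ind_neg fun c =>
      hx (mem_cent1_iff.2 c.2.2), sm_equiv (MulAut.conj g).toEquiv (S := (𝐂[b] : Subgroup G)) fun x => by
        rw [← cj_centralizer_singleton]; exact conj_mem_cj.symm]
    refine sm_congr fun x hx => ind_congr ⟨fun c => isConj_conj_iff.1 c.1, fun c => ⟨isConj_conj_iff.2 c, hy, ?_⟩⟩
    simp [mul_assoc, ← mem_cent1_iff.1 hx]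
    rw [← mul_assoc b, ← mem_cent1_iff.1 hx, mul_assoc]
  have e1 := key a b
  have e2 := key b a
  rw [sm_comm] at e2
  simp only [show ∀ x y : G, (IsConj b y ∧ IsConj a x ∧ y * x = x * y) = (IsConj a x ∧ IsConj b y ∧ x * y = y * x) from
    fun x y => propext ⟨fun c => ⟨c.2.1, c.1, c.2.2.symm⟩, fun c => ⟨c.2.1, c.1, c.2.2.symm⟩⟩] at e2
  refine Nat.eq_of_mul_eq_mul_right (Nat.card_pos (α := G)) ?_
  rw [mul_right_comm, ← e2, mul_right_comm, e1, mul_right_comm]

namespace MM
variable {V : Subgroup G} {ν : Finset GolayPt → G} {κ : M24 →* G} (h : MM V ν κ)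
include h

theorem sm_over {r : ℕ} (hr : inM24 r = true) {L : List ℕ} (h1 : allL L (fun m => ev m && Nat.beq (red m) m) = true)
    (h2 : L.Nodup) {φ : G → ℕ} (h3 : ∀ j < 4096, ev (hi j) = true → φ (el ν κ (hi j, r)) ≠ 0 → hi j ∈ L) :
    sm {x | x ∈ 𝐍(V) ∧ pel h.mu x = perm r} φ = sumL L fun m => φ (el ν κ (m, r)) := by
  have sp : ∀ m ∈ L, ev m = true ∧ red m = m := fun m hm => by simpa [beq_iff] using allL_iff.1 h1 m hm
  rw [sm_list (T := fun m => {el ν κ (m, r)}) φ ((List.Pairwise.and_mem.1 h2).imp fun {a b} ⟨ha, hb, e⟩ x hx hy => by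
    rw [Set.mem_singleton_iff.1 hx, Set.mem_singleton_iff, h.el_eq_iff (okE_mk (sp a ha).1 hr) (okE_mk (sp b hb).1 hr), eqE,
      Bool.and_eq_true, eqv_iff_red, (sp a ha).2, (sp b hb).2] at hy
    exact e hy.1) (fun x hx h0 => ?_) fun m hm x hx => ?_]
  · exact sumL_congr fun m _ => sm_single _ _
  · obtain ⟨m, hm, rfl⟩ := h.exists_el' hx.1 hx.2
    obtain ⟨j, hj, e1, e2⟩ := h.exists_hi (h.v_mem hm)
    have e : el ν κ (m, r) = el ν κ (hi j, r) := by rw [el, el, e2]
    exact ⟨_, h3 j hj e1 (e ▸ h0), e⟩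
  · rw [Set.mem_singleton_iff.1 hx]
    exact ⟨h.el_mem (okE_mk (sp m hm).1 hr), h.mu_el (okE_mk (sp m hm).1 hr)⟩

theorem sm_over_conj {r d : Pm} (hd : d ∈ M24) (φ : G → ℕ) : sm {x | x ∈ 𝐍(V) ∧ pel h.mu x = d * r * d⁻¹} φ =
    sm {x | x ∈ 𝐍(V) ∧ pel h.mu x = r} fun x => φ (pel κ d * x * (pel κ d)⁻¹) :=
  sm_equiv (MulAut.conj (pel κ d)).toEquiv (S := {x | x ∈ 𝐍(V) ∧ pel h.mu x = r})
    (T := {x | x ∈ 𝐍(V) ∧ pel h.mu x = d * r * d⁻¹}) (fun x => ⟨fun ⟨a, b⟩ => ⟨conj_H (h.k_mem hd) a, by
    show pel h.mu (pel κ d * x * (pel κ d)⁻¹) = _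
    rw [pel_conj _ (h.k_mem hd) a, h.mu_k hd, b]⟩, fun ⟨a, b⟩ => by
    have a' : x ∈ 𝐍(V) := by simpa [mul_assoc] using conj_H (inv_mem (h.k_mem hd)) a
    refine ⟨a', ?_⟩
    change pel h.mu (pel κ d * x * (pel κ d)⁻¹) = _ at b
    rw [pel_conj _ (h.k_mem hd) a', h.mu_k hd] at b
    simpa using b⟩) φ

theorem conj_span {r o m : ℕ} {Es : List ℕ} (hr : inM24 r = true) (H : (ev o && ev m && anyL Es fun e =>
    ev e && eqE (mulE (e, oneC) (m, r)) (mulE (o, r) (e, oneC))) = true) : ∃ v ∈ V, v * el ν κ (m, r) * v⁻¹ = el ν κ (o, r) := by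
  simp only [Bool.and_eq_true, anyL_iff] at H
  obtain ⟨⟨h1, h2⟩, e, -, h3, h4⟩ := H
  exact ⟨_, h.v_mem h3, h.el_v e ▸ h.conjE (okE_mk h3 oneC_in) (okE_mk h2 hr) (okE_mk h1 hr) h4⟩

end MM

def kI : ℕ := 0x59dcd49661a56c4342421b1117dc0a
def kJ : ℕ := 0xbb96d19d358464f458459d18a31020
def kS : ℕ := 0xbccd4426026c5eb504e32d644b3980
def eI : List ℕ := spanL [0x9000, 0xc000, 0x11000, 0x4d000] 0
def eJ : List ℕ := spanL [0x18000, 0x9000, 0x14000, 0x4d000] 0
def eS : List ℕ := spanL [0x35000, 0x33000, 0x5000, 0x3c000, 0x22000] 0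

namespace St
variable (S : St G)

theorem mem_Ct {x : G} : x ∈ 𝐂[S.t] ↔ x ∈ 𝐍(S.V) ∧ pel S.μ x ∈ D2 := by
  refine ⟨fun hx => ⟨S.cent_t hx, S.mm.mu_mem (S.cent_t hx), ?_⟩, fun ⟨a, b⟩ => ?_⟩
  · have := S.mm.acts_mu (S.cent_t hx) _ (ev_even DD_ev)
    rw [mem_cent1_iff.1 hx, mul_inv_cancel_right] at this
    exact (S.mm.todd.eq_of_small (ev_even DD_ev) (by rw [card_smul]; exact ev_even DD_ev)
      (by rw [card_smul, DD_card]; norm_num) this).symm
  · rw [mem_cent1_iff, ← mul_inv_eq_iff_eq_mul, S.mm.acts_mu a _ (ev_even DD_ev), show pel S.μ x • fs DD = _ from b.2]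

theorem k_Ct {g : Pm} (hg : g ∈ D2) : pel S.κ g ∈ 𝐂[S.t] := S.mem_Ct.2 ⟨S.mm.k_mem hg.1, by rwa [S.mm.mu_k hg.1]⟩
theorem V_Ct : S.V ≤ 𝐂[S.t] := fun v hv => mem_cent1_iff.2 (S.mm.comm_V hv (S.mm.v_mem DD_ev))

/-- sum over the fibre -/
noncomputable def FM (φ : G → ℕ) (g : Pm) : ℕ := sm {x | x ∈ 𝐍(S.V) ∧ pel S.μ x = g} φ

theorem sm_Ct {φ : G → ℕ} (h : ∀ x, φ x ≠ 0 → x * x = 1) : sm 𝐂[S.t] φ =
    S.FM φ 1 + sm (clD (perm i2C)) (S.FM φ) + sm (clD (perm j2C)) (S.FM φ) + sm (clD (perm sC)) (S.FM φ) := by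
  rw [← sm_D2 (φ := S.FM φ) fun g _ h2 => sm_zero fun x hx => by_contra fun a => h2 (by
    rw [← hx.2, ← pel_mul _ hx.1 hx.1, h x a, pel_one]),
    sm_fiber (C := D2) (f := pel S.μ) fun x hx => (S.mem_Ct.1 hx).2]
  exact sm_congr fun g hg => congrArg (sm · φ) (Set.ext fun x =>
    ⟨fun a => ⟨S.cent_t a.1, a.2⟩, fun a => ⟨S.mem_Ct.2 ⟨a.1, a.2 ▸ hg⟩, a.2⟩⟩)

theorem sm_clD_inv {φ : G → ℕ} (h : ∀ g ∈ 𝐂[S.t], ∀ x, φ (g * x * g⁻¹) = φ x) (r : Pm) :
    sm (clD r) (S.FM φ) = (clD r).ncard * S.FM φ r := sm_const fun g ⟨d, hd, e⟩ => by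
  rw [← e, FM, S.mm.sm_over_conj hd.1]; exact sm_congr fun x _ => h _ (S.k_Ct hd) x

theorem ty2A {r k : ℕ} {bs os : List ℕ} (H0 : (inM24 k && inM24 r && inM24 r2A && iw k r r2A) = true)
    (H1 : allL (spans bs [0]) (fun m => ev m && fx r2A (apM k m) && memL (red (apM k m)) LA) = true)
    (H2 : allL (spans bs os) (fun m => ev m && fx r2A (apM k m) && !(memL (red (apM k m)) LA)) = true) :
    (∀ m ∈ spans bs [0], IsConj S.z (S.e (m, r))) ∧ ∀ m ∈ spans bs os, IsConj S.t (S.e (m, r)) := by
  have hk : ∀ m, ev m = true → ev (apM k m) = true := fun m hm => by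
    simp only [Bool.and_eq_true] at H0
    rw [← code_perm' H0.1.1.1]; exact ev_apM _ hm
  refine ⟨fun m hm => ?_, fun m hm => ?_⟩
  · have := allL_iff.1 H1 m hm
    simp only [Bool.and_eq_true] at this
    rw [← isConj_conj_iff, S.mm.el_conj_k this.1.1 H0]
    exact (S.zA (hk m this.1.1) this.1.2).2 this.2
  · have := allL_iff.1 H2 m hm
    simp only [Bool.and_eq_true, Bool.not_eq_true'] at this
    obtain ⟨n, -, e⟩ := S.mm.clsA1 (hk m this.1.1) this.1.2 this.2
    rw [← isConj_conj_iff, S.mm.el_conj_k this.1.1 H0, ← isConj_conj_iff (g := n), e]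
    exact S.tyA.2

theorem tyI : (∀ m ∈ spans vI [0], IsConj S.z (S.e (m, i2C))) ∧ ∀ m ∈ spans vI oI, IsConj S.t (S.e (m, i2C)) :=
  S.ty2A (k := kI) (by decide +kernel) (by decide +kernel) (by decide +kernel)
theorem tyJ : (∀ m ∈ spans vJ [0], IsConj S.z (S.e (m, j2C))) ∧ ∀ m ∈ spans vJ oJ, IsConj S.t (S.e (m, j2C)) :=
  S.ty2A (k := kJ) (by decide +kernel) (by decide +kernel) (by decide +kernel)
theorem tyS : IsConj (S.e (0, r2B)) (S.e (0, sC)) ∧ IsConj (S.e (uB, r2B)) (S.e (0x44000, sC)) := by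
  obtain ⟨n, -, e⟩ := S.mm.clsB0 (m := apM kS 0) (by decide +kernel) (by decide +kernel)
  obtain ⟨n', -, e'⟩ := S.mm.clsB1 (m := apM kS 0x44000) (by decide +kernel) (by decide +kernel) (by decide +kernel)
  constructor
  · rw [← isConj_conj_iff, S.mm.el_conj_k (k := kS) (r' := r2B) ev_zero (by decide +kernel), ← isConj_conj_iff (g := n), e]
  · rw [← isConj_conj_iff, S.mm.el_conj_k (k := kS) (r' := r2B) (by decide +kernel) (by decide +kernel),
      ← isConj_conj_iff (g := n'), e']

theorem FM_list {r : ℕ} {bs os : List ℕ} (hr : inM24 r = true) (H1 : allL (spans bs (0 :: os)) (fun m => ev m &&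
    Nat.beq (red m) m) = true) (H2 : (spans bs (0 :: os)).Nodup) (H3 : allLt (fun j => !(ev (hi j)) || !(fx r (hi j)) ||
    memL (hi j) (spans bs (0 :: os))) 4096 = true) {φ : G → ℕ} (h : ∀ x, φ x ≠ 0 → x * x = 1) :
    S.FM φ (perm r) = sumL (spans bs [0]) (fun m => φ (S.e (m, r))) + sumL (spans bs os) fun m => φ (S.e (m, r)) := by
  rw [FM, S.mm.sm_over hr H1 H2 fun j hj e h0 => ?_, ← sumL_append]
  · simp [spans]
  · have := allLt_iff.1 H3 j hj
    rw [e, show fx r (hi j) = true from ((S.mm.el_sq e hr).1 (h _ h0)).1] at this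
    simpa [memL_iff] using this

theorem FM_I {φ : G → ℕ} (h : ∀ x, φ x ≠ 0 → x * x = 1) : S.FM φ (perm i2C) =
    sumL (spans vI [0]) (fun m => φ (S.e (m, i2C))) + sumL (spans vI oI) fun m => φ (S.e (m, i2C)) :=
  S.FM_list (in22_24 i2C_in) (by decide +kernel) (by decide +kernel) (by decide +kernel) h
theorem FM_J {φ : G → ℕ} (h : ∀ x, φ x ≠ 0 → x * x = 1) : S.FM φ (perm j2C) =
    sumL (spans vJ [0]) (fun m => φ (S.e (m, j2C))) + sumL (spans vJ oJ) fun m => φ (S.e (m, j2C)) :=
  S.FM_list j2C_in (by decide +kernel) (by decide +kernel) (by decide +kernel) h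
theorem FM_S {φ : G → ℕ} (h : ∀ x, φ x ≠ 0 → x * x = 1) : S.FM φ (perm sC) =
    sumL (spans vS [0]) (fun m => φ (S.e (m, sC))) + sumL (spans vS oS) fun m => φ (S.e (m, sC)) :=
  S.FM_list sC_in (by decide +kernel) (by decide +kernel) (by decide +kernel) h

theorem ty_du {m : ℕ} (hm : m ∈ duL) : IsConj S.t (S.v m) := by
  have := allL_iff.1 duL_chk m hm
  simp only [Bool.and_eq_true, anyLt_iff, beq_iff, Bool.not_eq_true', beq_false_iff] at this
  obtain ⟨⟨h1, h2⟩, a, ha, b, hb, hab, e⟩ := this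
  have key : allLt (fun a => allLt (fun b => Nat.beq a b || (ev (Nat.xor (Nat.pow 2 a) (Nat.pow 2 b)) &&
    Nat.beq (popc (Nat.xor (Nat.pow 2 a) (Nat.pow 2 b))) 2)) 24) 24 = true := by decide +kernel
  have := allLt_iff.1 (allLt_iff.1 key a ha) b hb
  rw [beq_false_iff.2 hab, Bool.false_or, Bool.and_eq_true, beq_iff] at this
  rw [v, ← (S.mm.v_eq_iff this.1 h1).2 (eqv_iff_red.2 (e.trans h2.symm))]
  exact S.conj_duad (by rw [card_fs, this.2])

theorem wkV {m : ℕ} (hm : ev m = true) (r r' f : ℕ) :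
    ev (wk mvV r r' f m) = true ∧ ∃ g ∈ 𝐂[S.t], g * S.v m * g⁻¹ = S.v (wk mvV r r' f m) :=
  wk_ind (P := fun u => ev u = true ∧ ∃ g ∈ 𝐂[S.t], g * S.v m * g⁻¹ = S.v u) (fun u ⟨h1, g, hg, e⟩ => by
    have a : in22 (sel4 (t2 TV (Nat.shiftRight u 12)) xC fC xiC yC) = true :=
      sel4_ind (P := fun c => in22 c = true) _ xC_in fC_in (by decide +kernel) yC_in
    have b := ev_apM (perm (sel4 (t2 TV (Nat.shiftRight u 12)) xC fC xiC yC)) h1
    have c := S.mm.conj_v (M22_le (perm_mem22 a)) h1
    rw [code_perm22 a] at b c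
    obtain ⟨e1, e2, -⟩ := S.mm.exists_red b
    exact ⟨e1, _, mul_mem (S.k_Ct (M22_le_D2 (perm_mem22 a))) hg, by rw [mvV, v, v, e2, ← c, ← v, ← v, ← e]; group⟩)
    r r' f ⟨hm, 1, one_mem _, by simp⟩

theorem LV_cases {m : ℕ} (hm : m ∈ LV) : t2 TL (Nat.shiftRight m 12) = 0 ∧ (m = 0 ∨ m ∈ duL) ∨
    t2 TL (Nat.shiftRight m 12) = 1 ∧ (∃ g ∈ 𝐂[S.t], g * S.v m * g⁻¹ = S.v T0) ∨
    t2 TL (Nat.shiftRight m 12) = 2 ∧ ∃ g ∈ 𝐂[S.t], g * S.v m * g⁻¹ = S.v 0x1e := by
  have := allL_iff.1 LV_chk m hm
  simp only [force_eq, Bool.and_eq_true, Bool.or_eq_true, beq_iff, memL_iff, List.mem_cons] at this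
  obtain ⟨-, g, hg, e⟩ := S.wkV (List.mem_filter.1 hm).2 0xda1000 0x684000 10
  rcases this.2 with (a | a) | a
  · exact Or.inl a
  · exact Or.inr (Or.inl ⟨a.1, g, hg, by
      rw [e, a.2]; exact (S.mm.v_eq_iff (by decide +kernel) T0_ev).2 (by decide +kernel)⟩)
  · exact Or.inr (Or.inr ⟨a.1, g, hg, by
      rw [e, a.2]; exact (S.mm.v_eq_iff (by decide +kernel) (by decide +kernel)).2 (by decide +kernel)⟩)

theorem z_1e : IsConj S.z (S.v 0x1e) := S.conj_tetrad (by rw [card_fs]; decide +kernel)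
theorem z_T0 : IsConj S.z (S.v T0) := S.z_eq' ▸ IsConj.refl _
theorem nz_one : ¬ IsConj S.z 1 := by rw [isConj_one_left]; exact S.jh.ez.ne_one
theorem nt_one : ¬ IsConj S.t 1 := fun e => by
  have := S.t_ord; rw [isConj_one_left.1 e, orderOf_one] at this; omega

theorem FM_z1 {φ : G → ℕ} (h : ∀ g ∈ 𝐂[S.t], ∀ x, φ (g * x * g⁻¹) = φ x) :
    S.FM (fun x => ind (IsConj S.z x) * φ x) 1 = 231 * φ (S.v T0) + 1540 * φ (S.v 0x1e) := by
  rw [FM, ← perm_oneC, S.mm.sm_over oneC_in (L := LV) (allL_iff.2 fun m hm => by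
    have := allL_iff.1 LV_chk m hm
    rw [force_eq, force_eq, Bool.and_eq_true] at this
    rw [(List.mem_filter.1 hm).2, this.1]; rfl) LV_nodup fun j hj e _ => mem_LV hj e,
    sumL_congr (g := fun m => cnd (Nat.beq (t2 TL (Nat.shiftRight m 12)) 1) (φ (S.v T0)) 0 +
      cnd (Nat.beq (t2 TL (Nat.shiftRight m 12)) 2) (φ (S.v 0x1e)) 0) fun m hm => ?_, sumL_add, sumL_cnd, sumL_cnd _ _ (φ _),
    show sumL LV _ = 231 by decide +kernel, show sumL LV _ = 1540 by decide +kernel]
  rw [S.mm.el_v, cnd_beq, cnd_beq]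
  rcases S.LV_cases hm with ⟨a, b⟩ | ⟨a, g, hg, e⟩ | ⟨a, g, hg, e⟩
  · rw [a, ind_neg]; · simp
    rcases b with rfl | b
    · rw [S.mm.v_zero]; exact S.nz_one
    · exact fun c => S.not_zt c (S.ty_du b)
  · rw [a, ind_pos (isConj_conj_iff.1 (e ▸ S.z_T0)), ← e, h g hg]; simp
  · rw [a, ind_pos (isConj_conj_iff.1 (e ▸ S.z_1e)), ← e, h g hg]; simp

theorem FM_t1 (φ : G → ℕ) : S.FM (fun x => ind (IsConj S.t x) * φ x) 1 = sumL duL fun m => φ (S.v m) := by
  rw [FM, ← perm_oneC, S.mm.sm_over oneC_in (L := duL) (allL_iff.2 fun m hm => by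
    have := allL_iff.1 duL_chk m hm
    rw [Bool.and_eq_true] at this; exact this.1) (by decide +kernel) fun j hj e h0 => ?_]
  · exact sumL_congr fun m hm => by rw [S.mm.el_v, ind_pos (S.ty_du hm), one_mul]
  · rw [S.mm.el_v] at h0
    have a : IsConj S.t (S.v (hi j)) := by_contra fun a => h0 (by rw [ind_neg a, zero_mul])
    rcases S.LV_cases (mem_LV hj e) with ⟨-, b | b⟩ | ⟨-, g, hg, e⟩ | ⟨-, g, hg, e⟩
    · rw [b, v, S.mm.v_zero] at a; exact absurd a S.nt_one
    · exact b
    · exact (S.not_zt (isConj_conj_iff.1 (e ▸ S.z_T0)) a).elim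
    · exact (S.not_zt (isConj_conj_iff.1 (e ▸ S.z_1e)) a).elim

theorem sum_span {r o : ℕ} {bs Es : List ℕ} (hr : inM24 r = true) (H : allL (spans bs [o]) (fun m => ev o && ev m &&
    anyL Es fun e => ev e && eqE (mulE (e, oneC) (m, r)) (mulE (o, r) (e, oneC))) = true) {φ : G → ℕ}
    (h : ∀ g ∈ 𝐂[S.t], ∀ x, φ (g * x * g⁻¹) = φ x) :
    sumL (spans bs [o]) (fun m => φ (S.e (m, r))) = (spans bs [o]).length * φ (S.e (o, r)) := sumL_const fun m hm => by
  obtain ⟨v, hv, e⟩ := S.mm.conj_span hr (allL_iff.1 H m hm)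
  rw [St.e, St.e, ← e, h v (S.V_Ct hv)]

theorem ind_sq {a : G} (ha : orderOf a = 2) (φ : G → ℕ) (x : G) (h : ind (IsConj a x) * φ x ≠ 0) : x * x = 1 :=
  sq_of_conj ha (by_contra fun c => h (by rw [ind_neg c, zero_mul]))

/-- the classes of involutions of type `z` in `C(t)` -/
theorem sm_Ct_z {φ : G → ℕ} (h : ∀ g ∈ 𝐂[S.t], ∀ x, φ (g * x * g⁻¹) = φ x) :
    sm 𝐂[S.t] (fun x => ind (IsConj S.z x) * φ x) = 231 * φ (S.v T0) + 1540 * φ (S.v 0x1e) + 18480 * φ (S.e (0, i2C)) +
      5280 * φ (S.e (0, j2C)) + 44352 * (ind (IsConj S.z (S.e (0, sC))) * φ (S.e (0, sC)) +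
        ind (IsConj S.z (S.e (0x44000, sC))) * φ (S.e (0x44000, sC))) := by
  have h' : ∀ g ∈ 𝐂[S.t], ∀ x, ind (IsConj S.z (g * x * g⁻¹)) * φ (g * x * g⁻¹) = ind (IsConj S.z x) * φ x :=
    fun g hg x => by rw [h g hg, ind_congr isConj_conj_iff]
  have q := ind_sq S.z_ord φ
  rw [S.sm_Ct q, S.sm_clD_inv h', S.sm_clD_inv h', S.sm_clD_inv h', S.FM_z1 h, S.FM_I q, S.FM_J q, S.FM_S q,
    ncard_clI, ncard_clJ, ncard_clS,
    sumL_const (L := spans vI oI) (n := 0) fun m hm => by rw [ind_neg fun c => S.not_zt c (S.tyI.2 m hm), zero_mul],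
    sumL_const (L := spans vJ oJ) (n := 0) fun m hm => by rw [ind_neg fun c => S.not_zt c (S.tyJ.2 m hm), zero_mul],
    S.sum_span (φ := fun x => ind (IsConj S.z x) * φ x) (bs := vI) (o := 0) (Es := eI) (in22_24 i2C_in) (by decide +kernel) h',
    S.sum_span (φ := fun x => ind (IsConj S.z x) * φ x) (bs := vJ) (o := 0) (Es := eJ) j2C_in (by decide +kernel) h',
    S.sum_span (φ := fun x => ind (IsConj S.z x) * φ x) (bs := vS) (o := 0) (Es := eS) sC_in (by decide +kernel) h', oS,
    S.sum_span (φ := fun x => ind (IsConj S.z x) * φ x) (bs := vS) (o := 0x44000) (Es := eS) sC_in (by decide +kernel) h',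
    ind_pos (S.tyI.1 0 (by decide +kernel)), ind_pos (S.tyJ.1 0 (by decide +kernel)),
    show (spans vI [0]).length = 16 by decide +kernel, show (spans vJ [0]).length = 16 by decide +kernel,
    show (spans vS [0]).length = 32 by decide +kernel, show (spans vS [0x44000]).length = 32 by decide +kernel]
  ring

end St

end CA.J4
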