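import Cfsg.Agent.Lib.J4.Bits

/-!
Uniqueness of the 6-dimensional module over `F₄` of `3.M22:2`: coordinates.
-/

set_option autoImplicit false

namespace CA.J4
open CA.Gol

def OM : ℕ := 0x10000c0008000300020000c0008000300020000c000800030002
def XN : ℕ := 0x100004c80c8405f60fad021b01360a990577031202310ab20561
def YN : ℕ := 0x100001000300038002400f000a000023001200020001000b0006
def FN : ℕ := 0x1000001300320024001c00100030084004c00bc0068004400cc0
def SN : ℕ := 0x100000120023003700190013002108c00c4005c00a4004400880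
/-- the symplectic form -/
def BN : ℕ := 0xd0006003200130019002e0240038008c00c4007400980
def Xc : ℕ := 0x800040001ae035902000100008000400020001000080004
def Yc : ℕ := 0x8000400000800040327021e01e103930080004000020001
def RK : ℕ := 0xee75352011cc45e92235c947983b2eeafe6540ec72379ae0db6bd944748a57f37d86821baca004b06294cded4a7d2016ef67208293ddeab362b9de1c623a4979abf3a43716d96349285dcc4e582bbf744d5a3f833a3f50da26fdc5298a52f7b908fd97413023e6dfecca44ca6df7fa003b3f76695b91a6bf19c960d8d75935b16de366c570e4ef2e8e195dff8a075946bdf766e4c0a741052f51ee7c928b0a61ad631ba957494cb7a3b4090bea8a4d440854f79ec2ce6126c69ecf58504141d978f392ec141e6eaf9a4b41fb8ffbef2d14276d74b0c674e23c05c1a096814f1019200165670d0ec54be7ea6f6458ddb17e4ff4cb5da13278642b44dfb869faac5128e7c28cbb5a8d11662b012a7cf0675d1a6a05c1a8e03c8fdf8b41a6a6742f84fe4a5ef4c629d70d89619ce96da8613a0aa1ddf1f5b2e83479c917c125472661b0a287c974fbe824e526d451217cb14de45af5fdd7984fa21000be1aaccf67a8810aa4a65768f4e465cbb0e8678618ec1cda7d0929963c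506a580513d906a54046baf5a56eab9d55ac63e3312e6b06931d75fb3f346dfa869fc4349d58bdf3023e0371d8c7b73884a750f2a566e74876cf8aa95014f2412deb4237d703b1d33e309cb04ba5df559c308205db2e279f21ecedd3eb00c6924e602f1168eb5cca63af06b24462dbc7ae2c6c2b92c738eb20f8db54fa46afb44d4da8abe090f7a52988532ec3a790970953e560ccc3215e4d42fc07f6874c6fafac38154aa5969f43e9b7d72813a1533f0dfc063479f7b6a1a7ed137e09b94d36fb4dfee26253eb4b28b6f1dbe68d434fa1f4e950b3dbbd91f580e380799d1827117f2bbffe38742e6667eed01bd1e356c5bd919cc21f631edb4fb0c28f3497fdcb4aa99b459c7cbd946750a2ab57aa4e213a462daa97193131416a81b0503c8ec06e311b99d02e0c4781e2d02d90aaedd34e9da850d3f6fda213a8bf7de5ce61063dec467daa2351bf27feb899c7cfc34d68f496d2750ce7cbf49aeb108e7ec63de42f36d971fae4696d5a675f0a6ad17dadb1811fd7b284523a9ac1b8cc4bdd493f3e5fda14db38f83719558002cbfe7eea49b0004ca9b8bf9a4b9695afa6f416c33c0e21a05c0ffc716b3478a0c0292d891631cf855d6abc635a2b06627e12b4fa1cb095fda260d7f4359225e0c7c20f3770e0c8cb9741d97fbf2992bba47fa95b963b8709e584cf0c20e0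7793d090cc560b59af8e1f56ef410d27481f19b1159814e377bbb10e3b06e67b68c513a826bdbf4cd428d7b3a851e090381c47748c44bed5298c5ef4a5ea7dc29208ef0e45726d32227b50a04bbc85d874614c3943e4af3fbc25d1a70c16eb77d9b1543b3bf55f31d8a80dd65162007198960dcd9e0838094bd886fde88b527321e8edf8a403662a54acc8793b86eb24002ca91999d83d7a6b621a4ee71083dac70cb892d428f1481155b295770021818b938e577fdcea708a90f2ff9bb99272d2bd21fdc3ff1858cd98cbc1ac916b58caeb55340b8711e0b631bb7b22d5fcd762a073e9e222428298737d7d76f3e033a392cf29741d6a91b75b07cb4ad48ff5c6625837350d02e1c47877724fcf975dcc9ff3e5577aa31ad63af83a34d51112153ee7703b8845e627b20a0352dac6551e2204302b84abecba091d728d35fb72d258730250f9caeff9c05d80dc7ccc8c167d6c5b782dbc6adec836953acc3e0360b4701e22758c71e11b1ae4b0ce0262faa193a05c1c0e239c562d81731c9de2bb36ff55ee12e8c5e04552c9aa46dd641f2bffe70974556aa00000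

theorem lin_mm12 (A : ℕ) {B : ℕ} (hB : ∀ n < 4096, lin B n < 4096) {w : ℕ} (hw : w < 4096) :
    lin (mm A B) w = lin A (lin B w) := by
  refine ext_xor (n := 12) (f := lin (mm A B)) (g := fun w => lin A (lin B w))
    (fun a ha b hb => lin_xor _ (by omega) (by omega)) (fun a ha b hb => ?_) (fun j hj => ?_) w hw
  · have h1 := hB a ha
    have h2 := hB b hb
    rw [lin_xor B (by omega) (by omega), lin_xor A (by omega) (by omega)]
  · rw [lin_pow _ (by omega), lin_pow _ (by omega), col_mm _ _ (by omega)]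

theorem lin_lt12 {M : ℕ} (h : colsLt M 12 4096 = true) {w : ℕ} (hw : w < 4096) : lin M w < 4096 :=
  lin_lt_of_cols (n := 12) (m := 12) (by norm_num) h hw

theorem xor12 {a b : ℕ} (ha : a < 4096) (hb : b < 4096) : a ^^^ b < 4096 := xor_lt' (n := 12) ha hb

theorem lin_xor12 (M : ℕ) {a b : ℕ} (ha : a < 4096) (hb : b < 4096) : lin M (a ^^^ b) = lin M a ^^^ lin M b :=
  lin_xor M (by omega) (by omega)

/-- the first twelve columns agree -/
def eq12 (A B : ℕ) : Bool := allLt (fun j => Nat.beq (col A j) (col B j)) 12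

theorem eq12_lin {A B : ℕ} (h : eq12 A B = true) {w : ℕ} (hw : w < 4096) : lin A w = lin B w :=
  lin_congr (n := 12) (by norm_num) (fun j hj => beq_iff.1 (allLt_iff.1 h j hj)) hw

/-- the identity matrix -/
def I13 : ℕ := 0x1000080004000200010000800040002000100008000400020001

theorem lin_I13 {w : ℕ} (hw : w < 8192) : lin I13 w = w := by
  refine ext_xor (n := 13) (f := lin I13) (g := fun w => w)
    (fun a ha b hb => lin_xor _ (by omega) (by omega)) (fun a ha b hb => rfl) (fun j hj => ?_) w hw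
  rw [lin_pow _ (by omega)]
  have : allLt (fun j => Nat.beq (col I13 j) (Nat.pow 2 j)) 13 = true := by decide +kernel
  exact beq_iff.1 (allLt_iff.1 this j hj)

theorem OM_lt {w : ℕ} (hw : w < 4096) : lin OM w < 4096 := lin_lt12 (by decide +kernel) hw
theorem XN_lt {w : ℕ} (hw : w < 4096) : lin XN w < 4096 := lin_lt12 (by decide +kernel) hw
theorem YN_lt {w : ℕ} (hw : w < 4096) : lin YN w < 4096 := lin_lt12 (by decide +kernel) hw
theorem FN_lt {w : ℕ} (hw : w < 4096) : lin FN w < 4096 := lin_lt12 (by decide +kernel) hw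
theorem SN_lt {w : ℕ} (hw : w < 4096) : lin SN w < 4096 := lin_lt12 (by decide +kernel) hw
theorem BN_lt {w : ℕ} (hw : w < 4096) : lin BN w < 4096 := lin_lt12 (by decide +kernel) hw
theorem Xc_lt {w : ℕ} (hw : w < 4096) : lin Xc w < 4096 := lin_lt12 (by decide +kernel) hw
theorem Yc_lt {w : ℕ} (hw : w < 4096) : lin Yc w < 4096 := lin_lt12 (by decide +kernel) hw

/-- `A B = C D` on vectors -/
theorem lin_rel {A B C D : ℕ} (h : (colsLt B 12 4096 && colsLt D 12 4096 && eq12 (mm A B) (mm C D)) = true)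
    {w : ℕ} (hw : w < 4096) : lin A (lin B w) = lin C (lin D w) := by
  simp only [Bool.and_eq_true] at h
  rw [← lin_mm12 A (fun _ => lin_lt12 h.1.1) hw, ← lin_mm12 C (fun _ => lin_lt12 h.1.2) hw, eq12_lin h.2 hw]

theorem lin_inv {A B : ℕ} (h : (colsLt B 12 4096 && eq12 (mm A B) I13) = true)
    {w : ℕ} (hw : w < 4096) : lin A (lin B w) = w := by
  simp only [Bool.and_eq_true] at h
  rw [← lin_mm12 A (fun _ => lin_lt12 h.1) hw, eq12_lin h.2 hw, lin_I13 (by omega)]

/-- generation of the module by one vector -/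
theorem gen_u {P : ℕ → Prop} (hx : ∀ a < 4096, ∀ b < 4096, P a → P b → P (a ^^^ b))
    (ho : ∀ a < 4096, P a → P (lin OM a)) (hX : ∀ a < 4096, P a → P (lin XN a))
    (hF : ∀ a < 4096, P a → P (lin FN a)) (hu : P 2410) : ∀ n < 4096, P n := by
  have b0 := hu
  have b2 : P 2047 := by have := hF _ (by norm_num) b0; rwa [show lin FN 2410 = 2047 by decide +kernel] at this
  have b4 : P 1260 := by have := hX _ (by norm_num) b2; rwa [show lin XN 2047 = 1260 by decide +kernel] at this
  have b6 : P 1043 := by have := hX _ (by norm_num) b4; rwa [show lin XN 1260 = 1043 by decide +kernel] at this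
  have b8 : P 1568 := by have := hX _ (by norm_num) b6; rwa [show lin XN 1043 = 1568 by decide +kernel] at this
  have b10 : P 1003 := by have := hX _ (by norm_num) b8; rwa [show lin XN 1568 = 1003 by decide +kernel] at this
  have hB : ∀ n < 4096, lin 0x17d03eb0b30062008210413087404ec095507ff0ebf096a n < 4096 :=
    fun n hn => lin_lt12 (by decide +kernel) hn
  have key : ∀ m < 2 ^ 12, P (lin 0x17d03eb0b30062008210413087404ec095507ff0ebf096a m) := by
    refine xor_induction ?_ ?_ ?_
    · have := hx _ (by norm_num) _ (by norm_num) b0 b0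
      rwa [Nat.xor_self, ← lin_zero 0x17d03eb0b30062008210413087404ec095507ff0ebf096a] at this
    · intro j hj
      rw [lin_pow _ (by omega)]
      have e : ∀ {a b : ℕ}, P a → b = a → P b := fun h e => e ▸ h
      interval_cases j
      · exact e b0 (by decide +kernel)
      · exact e (ho _ (by norm_num) b0) (by decide +kernel)
      · exact e b2 (by decide +kernel)
      · exact e (ho _ (by norm_num) b2) (by decide +kernel)
      · exact e b4 (by decide +kernel)
      · exact e (ho _ (by norm_num) b4) (by decide +kernel)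
      · exact e b6 (by decide +kernel)
      · exact e (ho _ (by norm_num) b6) (by decide +kernel)
      · exact e b8 (by decide +kernel)
      · exact e (ho _ (by norm_num) b8) (by decide +kernel)
      · exact e b10 (by decide +kernel)
      · exact e (ho _ (by norm_num) b10) (by decide +kernel)
    · intro a ha b hb h1 h2
      rw [lin_xor12 _ ha hb]; exact hx _ (hB a ha) _ (hB b hb) h1 h2
  intro n hn
  have := key _ (lin_lt12 (M := 0xa9b05760f110a3300f700ae0b6706de09f407ac0294017c) (by decide +kernel) hn)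
  rwa [lin_inv (by decide +kernel) hn] at this

/-- uniqueness of the invariant symplectic form -/
theorem form_unique {b : ℕ → ℕ → ℕ} (hlt : ∀ x y, b x y < 2)
    (hl : ∀ x < 4096, ∀ x' < 4096, ∀ y < 4096, b (x ^^^ x') y = b x y ^^^ b x' y)
    (hr : ∀ x < 4096, ∀ y < 4096, ∀ y' < 4096, b x (y ^^^ y') = b x y ^^^ b x y')
    (ha : ∀ x < 4096, b x x = 0)
    (ho : ∀ x < 4096, ∀ y < 4096, b (lin OM x) (lin OM y) = b x y)
    (hX : ∀ x < 4096, ∀ y < 4096, b (lin XN x) (lin XN y) = b x y)
    (hF : ∀ x < 4096, ∀ y < 4096, b (lin FN x) (lin FN y) = b x y)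
    (hne : ∃ x < 4096, ∃ y < 4096, b x y ≠ 0) : ∀ x < 4096, ∀ y < 4096, b x y = bil BN x y := by
  -- a form vanishing on (u, ωu) vanishes
  have van : ∀ {b : ℕ → ℕ → ℕ},
      (∀ x < 4096, ∀ x' < 4096, ∀ y < 4096, b (x ^^^ x') y = b x y ^^^ b x' y) →
      (∀ x < 4096, ∀ y < 4096, ∀ y' < 4096, b x (y ^^^ y') = b x y ^^^ b x y') →
      (∀ x < 4096, ∀ y < 4096, b (lin OM x) (lin OM y) = b x y) →
      (∀ x < 4096, ∀ y < 4096, b (lin XN x) (lin XN y) = b x y) →
      (∀ x < 4096, ∀ y < 4096, b (lin FN x) (lin FN y) = b x y) →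
      b 2410 2410 = 0 → b 2410 3775 = 0 → ∀ x < 4096, ∀ y < 4096, b x y = 0 := by
    intro b hl hr ho hX hF h1 h2
    refine gen_u (P := fun x => ∀ y < 4096, b x y = 0) ?_ ?_ ?_ ?_ ?_
    · intro x hx x' hx' a1 a2 y hy; rw [hl x hx x' hx' y hy, a1 y hy, a2 y hy]; rfl
    · intro x hx a1 y hy
      have hy' := OM_lt (OM_lt hy)
      rw [← lin_inv (A := OM) (B := mm OM OM) (by decide +kernel) hy, lin_mm12 _ (fun _ => OM_lt) hy,
        ho x hx _ hy', a1 _ hy']
    · intro x hx a1 y hy
      have hy' := lin_lt12 (M := 0x2ed019b0fb70a6e02b6016d0a3f052a0a4005c000fb00a6) (by decide +kernel) hy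
      rw [← lin_inv (A := XN) (B := 0x2ed019b0fb70a6e02b6016d0a3f052a0a4005c000fb00a6) (by decide +kernel) hy,
        hX x hx _ hy', a1 _ hy']
    · intro x hx a1 y hy
      have hy' := lin_lt12 (M := 0x1100330025001f0012003100c00080034002c004400cc0) (by decide +kernel) hy
      rw [← lin_inv (A := FN) (B := 0x1100330025001f0012003100c00080034002c004400cc0) (by decide +kernel) hy,
        hF x hx _ hy', a1 _ hy']
    · intro y hy
      have key : allLt (fun y => force (lin 0x17303e206720de10005000f0e0d090b0d4e0bc90fde0ab9 y) fun m =>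
          Nat.blt m 4096 && memL (Nat.xor y (Nat.xor m (lin XN m))) [0, 2410, 3775, 2005]) 4096 = true := by
        decide +kernel
      have := allLt_iff.1 key y hy
      simp only [force_eq, Bool.and_eq_true, blt_iff, memL_iff] at this
      obtain ⟨hm, hk⟩ := this
      set m := lin 0x17303e206720de10005000f0e0d090b0d4e0bc90fde0ab9 y
      have e0 : b 2410 (m ^^^ lin XN m) = 0 := by
        rw [hr _ (by norm_num) _ hm _ (XN_lt hm), ← hX _ (by norm_num) _ hm,
          show lin XN 2410 = 2410 by decide +kernel, Nat.xor_self]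
      have hm' := xor12 hm (XN_lt hm)
      have e1 : y = (y ^^^ (m ^^^ lin XN m)) ^^^ (m ^^^ lin XN m) := by
        rw [Nat.xor_assoc, Nat.xor_self, Nat.xor_zero]
      rw [e1, hr _ (by norm_num) _ (xor12 hy hm') _ hm', e0, Nat.xor_zero]
      change y ^^^ (m ^^^ lin XN m) ∈ _ at hk
      simp only [List.mem_cons, List.not_mem_nil, or_false] at hk
      rcases hk with e | e | e | e <;> rw [e]
      · have := hr 2410 (by norm_num) 0 (by norm_num) 0 (by norm_num)
        rwa [Nat.xor_self, Nat.xor_self] at this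
      · exact h1
      · exact h2
      · have := hr 2410 (by norm_num) 2410 (by norm_num) 3775 (by norm_num)
        rwa [h1, h2] at this
  have inv : ∀ {A : ℕ}, colsLt A 12 4096 = true → allLt (fun i => allLt (fun j =>
      Nat.beq (bil BN (col A i) (col A j)) (bil BN (Nat.pow 2 i) (Nat.pow 2 j))) 12) 12 = true →
      ∀ x < 4096, ∀ y < 4096, bil BN (lin A x) (lin A y) = bil BN x y := by
    intro A h1 h2 x hx y hy
    refine ext_xor (n := 12) (f := fun x => bil BN (lin A x) (lin A y)) (g := fun x => bil BN x y)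
      (fun a ha b hb => ?_) (fun a ha b hb => bil_xor_left (BN_lt hy) _ _) (fun i hi => ?_) x hx
    · rw [lin_xor12 _ ha hb, bil_xor_left (BN_lt (lin_lt12 h1 hy))]
    · refine ext_xor (n := 12) (f := fun y => bil BN (lin A (2 ^ i)) (lin A y)) (g := fun y => bil BN (2 ^ i) y)
        (fun a ha b hb => ?_) (fun a ha b hb => bil_xor_right (by omega) (by omega) (BN_lt ha) (BN_lt hb) _)
        (fun j hj => ?_) y hy
      · have h3 := lin_lt12 h1 ha
        have h4 := lin_lt12 h1 hb
        rw [lin_xor12 _ ha hb, bil_xor_right (by omega) (by omega) (BN_lt h3) (BN_lt h4)]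
      · rw [lin_pow _ (by omega), lin_pow _ (by omega)]
        exact beq_iff.1 (allLt_iff.1 (allLt_iff.1 h2 i hi) j hj)
  have t1 : b 2410 3775 = 1 := by
    by_contra h
    have h0 : b 2410 3775 = 0 := by have := hlt 2410 3775; omega
    obtain ⟨x, hx, y, hy, e⟩ := hne
    exact e (van hl hr ho hX hF (ha _ (by norm_num)) h0 x hx y hy)
  intro x hx y hy
  have := van (b := fun x y => b x y ^^^ bil BN x y) ?_ ?_ ?_ ?_ ?_ ?_ ?_ x hx y hy
  · exact Nat.xor_eq_zero_iff.1 this
  · intro x hx x' hx' y hy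
    simp only [hl x hx x' hx' y hy, bil_xor_left (BN_lt hy)]; ac_rfl
  · intro x hx y hy y' hy'
    simp only [hr x hx y hy y' hy', bil_xor_right (by omega : y < 32768) (by omega : y' < 32768)
      (BN_lt hy) (BN_lt hy')]; ac_rfl
  · intro x hx y hy
    simp only [ho x hx y hy, inv (A := OM) (by decide +kernel) (by decide +kernel) x hx y hy]
  · intro x hx y hy
    simp only [hX x hx y hy, inv (A := XN) (by decide +kernel) (by decide +kernel) x hx y hy]
  · intro x hx y hy
    simp only [hF x hx y hy, inv (A := FN) (by decide +kernel) (by decide +kernel) x hx y hy]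
  · simp only [ha 2410 (by norm_num)]; decide +kernel
  · simp only [t1]; decide +kernel

theorem exists_fixed_ne {α : Type*} [Finite α] (f : α → α) {p : ℕ} (hp : p.Prime) (hf : ∀ a, f^[p] a = a)
    (a0 : α) (hc : Nat.card α % p ≠ 1 % p) (h0 : f a0 = a0) : ∃ a, a ≠ a0 ∧ f a = a := by
  classical
  have := Fact.mk hp
  have := Fintype.ofFinite α
  by_contra h
  push Not at h
  have h1 := Equiv.Perm.card_fixedPoints_modEq (f := (f : Function.End α)) (p := p) (n := 1) (by
    rw [pow_one]; funext a; exact hf a)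
  have h2 : Fintype.card (Function.fixedPoints f) = 1 := by
    rw [Fintype.card_eq_one_iff]
    refine ⟨⟨a0, h0⟩, fun y => Subtype.ext ?_⟩
    by_contra e; exact h y e y.2
  rw [Nat.card_eq_fintype_card] at hc
  exact hc (h1.trans (by rw [h2]))

/-- the minimal polynomial of `X` on the 5-dimensional summand -/
def f1 {R : Type*} [Ring R] (x o : R) : R := 1 + o * x + x ^ 2 + x ^ 3 + o ^ 2 * x ^ 4 + x ^ 5

theorem f12_comm {R : Type*} [CommRing R] (x o : R) (h2 : (2 : R) = 0) (ho : o * o = o + 1) :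
    f1 x o * (f1 x (o * o) * (x + 1)) = x ^ 11 + 1 := by
  unfold f1
  linear_combination (x + x*o + 2*x^2 + 2*x^2*o + 3*x^3 + 2*x^3*o + 4*x^4 + 4*x^4*o + 7*x^5 + 7*x^5*o + 7*x^6 +
    7*x^6*o + 5*x^7 + 5*x^7*o + 6*x^8 + 6*x^8*o + 5*x^9 + 6*x^9*o + 2*x^10 + 2*x^10*o) * h2 +
    (x + 2*x^2 + x^2*o + 2*x^3 + x^3*o + 5*x^4 + x^4*o + x^4*o^2 + 9*x^5 + 4*x^5*o + 3*x^5*o^2 + x^5*o^3 + 9*x^6 +
    4*x^6*o + 3*x^6*o^2 + x^6*o^3 + 7*x^7 + 2*x^7*o + 2*x^7*o^2 + 8*x^8 + 4*x^8*o + 3*x^8*o^2 + x^8*o^3 + x^8*o^4 +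
    8*x^9 + 4*x^9*o + 3*x^9*o^2 + x^9*o^3 + x^9*o^4 + 3*x^10 + x^10*o + x^10*o^2) * ho

theorem f12 {R : Type*} [Ring R] (x o : R) (h2 : (1 : R) + 1 = 0) (ho : o * o = o + 1) (hc : x * o = o * x) :
    f1 x o * (f1 x (o * o) * (x + 1)) = x ^ 11 + 1 := by
  let S := Subring.closure ({x, o} : Set R)
  letI : CommRing S := Subring.closureCommRingOfComm (by
    intro a ha b hb
    rcases ha with rfl | rfl <;> rcases hb with rfl | rfl <;> simp [hc])
  let x' : S := ⟨x, Subring.subset_closure (by simp)⟩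
  let o' : S := ⟨o, Subring.subset_closure (by simp)⟩
  have := f12_comm x' o' (by rw [← one_add_one_eq_two]; exact Subtype.ext h2) (Subtype.ext ho)
  exact congrArg Subtype.val this

end CA.J4
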